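import Cfsg.Agent.Omega.OM.Var.UniPlusV
import Cfsg.Agent.Omega.OM.BlkGen
import Cfsg.Agent.Omega.MinPar

/-!
# GI (0) over the Baumann group, blocks over different fields

`Bfr S Q V L W Z C A q m` : the frame `Var.Fr` over `B = bau S`, `Z_J = zj S = ∏ Z i`, at least two blocks, `V^g`
commutes with `V` for `g ∈ N_G(B)`, not (all `q i = 2` and `|Z_J| = 4`).
`Y i = C_G(Z j : j ≠ i)`, `E = ⟨Y i : i⟩`.

* `Bfr.blk` : a block `L'` over `B` has `Z' = Z i`, `q' = q i`, `V' ≤ W i Z_J` for one `i` and `C_{Z_J}(L') = Z_J ∩ C i`, so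
  `L' ≤ Y i`;
* `Bfr.perm` : `N_G(Z_J)` permutes the `Z i` (with equal `q i`); `Bfr.norm_E` : it normalises `E`;
* `exists_blk` : a minimal parabolic `H` over `T ≥ B` which moves `Ω₁(Z(T))`, `J(T) ≰ O₂(H)`, is `⟨L', T⟩`;
* `Bfr.par` : a minimal parabolic over a 2-group `T ≥ B` moving `Ω₁(Z(T))` lies in `N_G(Z_J)` or in some `⟨Y i, T⟩`;
* `Bfr.loc` : if `E` normalises a 2-group `≠ 1` then `⟨E, N_G(Z_J)⟩` normalises `O₂(E) ≠ 1`, `O₂(E) ≤ B`;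
* `Bfr.gen` : `M ≥ E, N_G(B)`, `H` of characteristic 2 with Sylow group `T ≥ B`: `H` is generated by `H ∩ M` and the
  minimal parabolics `Y` over `T` with `J(T) ≰ O₂(Y)`, `[Ω₁(Z(T)), Y] = 1`, `O₂(Y) ≰ B`;
* `Bfr.parS_le` : `⟨P*(S)⟩ ≤ ⟨E, N_G(Z_J)⟩`;  `Bfr.nonLoc` : if `C_G(Z) ≤ N_G(Z_J)` and `⟨P*(S), C_G(Z)⟩` is nonlocal then
  `E` normalises no 2-group `≠ 1`.
-/

set_option autoImplicit false

namespace Cfsg.Agent.Omega.OM.Var

open Subgroup Cfsg Cfsg.Agent.ZN.ChoiceBase Cfsg.Agent.ZN.ChoiceSit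
open Cfsg.Agent.ZN (jj zj bau zc zl o2)
open Cfsg.Agent.MinSimple.MinParabolic (IsMinPar)
open Cfsg.Agent.Omega.SQ1.Bau (mem_sup_comm)
open Cfsg.Agent.Omega.OM.Uni (Md FB)
open Cfsg.Agent.Omega.OM.UniPlus (NB)
open Cfsg.Agent.Omega.OM.BlkGen (FBlk)
open Cfsg.Agent.Omega.LemmaK (WeakNormal)
open Cfsg.Agent.Omega.MinPar (IsParS NonLoc)
open Cfsg.Agent.Omega.LemmaK.Main (le_normalizer_bau)
open scoped Pointwise commutatorElement

universe u

variable {G : Type u} [Group G]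

/-! ### `Z_J ∩ C i = ∏_{j ≠ i} Z j` -/

section frame

variable {ι : Type*} {B Q V ZJ : Subgroup G} {L W Z C A : ι → Subgroup G} {q : ι → ℕ} {m : ℕ}

theorem Fr.Z_le_C (h : Fr B Q V ZJ L W Z C A q m) {i j : ι} (hij : j ≠ i) : Z j ≤ C i :=
  (h.blk j).ZV.trans (h.WjC i j hij.symm)

theorem Fr.Z_inf_C (h : Fr B Q V ZJ L W Z C A q m) {i : ι} {x : G} (h1 : x ∈ Z i) (h2 : x ∈ C i) : x = 1 := by
  have h3 : x ∈ W i ⊓ C i := mem_inf.2 ⟨(h.blk i).ZV h1, h2⟩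
  rwa [h.dir i, mem_bot] at h3

theorem Fr.exists_ne (h : Fr B Q V ZJ L W Z C A q m) (i : ι) : ∃ z ∈ Z i, z ≠ 1 := by
  by_contra hcon
  push Not at hcon
  have h1 : Z i ≤ ⊥ := fun z hz => mem_bot.2 (hcon z hz)
  have h2 := h.cardZ i
  rw [le_bot_iff.1 h1, Subgroup.card_bot] at h2
  have := (h.blk i).one
  omega

theorem Fr.Z_inj (h : Fr B Q V ZJ L W Z C A q m) {i j : ι} (e : Z i = Z j) : i = j := by
  by_contra hne
  obtain ⟨z, hz, hz1⟩ := h.exists_ne i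
  exact hz1 (h.Z_inf_C hz (h.Z_le_C (Ne.symm hne) (e ▸ hz)))

/-- `Z_J ∩ C i = ∏_{j ≠ i} Z j` -/
theorem Fr.inf_C (h : Fr B Q V ZJ L W Z C A q m) [Finite ι] (i : ι) :
    ZJ ⊓ C i = ⨆ j : {j : ι // j ≠ i}, Z j := by
  classical
  have := Fintype.ofFinite ι
  refine le_antisymm ?_ (iSup_le fun j => le_inf (h.Z_le j) (h.Z_le_C j.2))
  intro c hc0
  obtain ⟨hcJ, hc⟩ := mem_inf.1 hc0
  have hle : (⨆ j : {j : ι // j ≠ i}, Z j) ≤ ZJ := iSup_le fun j => h.Z_le j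
  have hleC : (⨆ j : {j : ι // j ≠ i}, Z j) ≤ C i := iSup_le fun j => h.Z_le_C j.2
  have key : ∀ s : Finset ι, i ∉ s → ∃ u ∈ ⨆ j : {j : ι // j ≠ i}, Z j, ∀ j ∈ s, u⁻¹ * c ∈ C j := by
    intro s
    induction s using Finset.induction_on with
    | empty => exact fun _ => ⟨1, one_mem _, by simp⟩
    | insert j s hj ih =>
      intro his
      have hji : j ≠ i := fun e => his (e ▸ Finset.mem_insert_self _ _)
      obtain ⟨u, hu, hus⟩ := ih fun h => his (Finset.mem_insert_of_mem h)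
      obtain ⟨w, hw, d, hd, hdJ, e⟩ := h.split_ZJ j (mul_mem (inv_mem (hle hu)) hcJ)
      refine ⟨u * w, mul_mem hu (mem_iSup_of_mem (⟨j, hji⟩ : {j : ι // j ≠ i}) hw), fun k hk => ?_⟩
      rcases Finset.mem_insert.1 hk with rfl | hk
      · have e1 : (u * w)⁻¹ * c = d := by
          calc (u * w)⁻¹ * c = w⁻¹ * (u⁻¹ * c) := by group
            _ = w⁻¹ * (w * d) := by rw [e]
            _ = d := by group
        rw [e1]; exact hd
      · have hkj : k ≠ j := fun e => hj (e ▸ hk)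
        have e2 : (u * w)⁻¹ * c = w⁻¹ * (u⁻¹ * c) := by group
        rw [e2]
        exact mul_mem (inv_mem (h.Z_le_C hkj.symm hw)) (hus k hk)
  obtain ⟨u, hu, hus⟩ := key (Finset.univ.erase i) (Finset.notMem_erase _ _)
  have h1 : u⁻¹ * c = 1 := by
    refine h.C0 _ (mul_mem (inv_mem (h.ZJV (hle hu))) (h.ZJV hcJ)) fun j => ?_
    by_cases hj : j = i
    · rw [hj]; exact mul_mem (inv_mem (hleC hu)) hc
    · exact hus j (Finset.mem_erase.2 ⟨hj, Finset.mem_univ _⟩)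
  rw [← inv_mul_eq_one.1 h1]
  exact hu

/-- `Z_J = ∏ Z i` -/
theorem Fr.ZJ_eq (h : Fr B Q V ZJ L W Z C A q m) [Finite ι] : ZJ = ⨆ i, Z i := by
  refine le_antisymm (fun z hz => ?_) (iSup_le h.Z_le)
  by_cases hι : Nonempty ι
  · obtain ⟨i⟩ := hι
    obtain ⟨w, hw, c, hc, hcJ, rfl⟩ := h.split_ZJ i hz
    refine mul_mem (mem_iSup_of_mem i hw) ?_
    have h1 : c ∈ ZJ ⊓ C i := mem_inf.2 ⟨hcJ, hc⟩
    rw [h.inf_C i] at h1
    exact (iSup_le fun j => le_iSup Z j.1 : (⨆ j : {j : ι // j ≠ i}, Z j) ≤ ⨆ i, Z i) h1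
  · have : z = 1 := h.C0 z (h.ZJV hz) fun i => absurd ⟨i⟩ hι
    rw [this]; exact one_mem _

end frame

/-! ### The groups `Y i`, `E` -/

/-- `Y i = C_G(Z j : j ≠ i)` -/
def YY {ι : Type*} (Z : ι → Subgroup G) (i : ι) : Subgroup G :=
  centralizer ((⨆ j : {j : ι // j ≠ i}, Z j : Subgroup G) : Set G)

/-- `E = ⟨Y i : i⟩` -/
def EE {ι : Type*} (Z : ι → Subgroup G) : Subgroup G := ⨆ i, YY Z i

theorem YY_le_EE {ι : Type*} (Z : ι → Subgroup G) (i : ι) : YY Z i ≤ EE Z := le_iSup (YY Z) i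

/-- The frame over the Baumann group. -/
structure Bfr {ι : Type*} (S : Sylow 2 G) (Q V : Subgroup G) (L W Z C A : ι → Subgroup G) (q : ι → ℕ) (m : ℕ) :
    Prop where
  char2 : IsCharacteristicTwoType G
  fr : Fr (bau (S : Subgroup G)) Q V (zj (S : Subgroup G)) L W Z C A q m
  com : ∀ g ∈ normalizer (bau (S : Subgroup G) : Set G), ∀ w ∈ cj g V, ∀ v ∈ V, w * v = v * w
  two : ∀ i : ι, ∃ j, j ≠ i
  four : ¬ ((∀ k, q k = 2) ∧ Nat.card (zj (S : Subgroup G)) = 4)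

/-- A minimal parabolic `H` over `T ≥ bau S` which moves `Ω₁(Z(T))`, `J(T) ≰ O₂(H)`, is generated by `T` and a block. -/
theorem exists_blk [Finite G] {T H : Subgroup G} (hFF : FFThm.Stmt.{u}) (S : Sylow 2 G) (hT : Syl T H)
    (hB : bau (S : Subgroup G) ≤ T) (hP : IsMinPar T H) (hc : H ⊓ centralizer (o2 H : Set G) ≤ o2 H)
    (hJ : ¬ jj T ≤ o2 H) (hZ : ¬ H ≤ centralizer (zc T : Set G)) :
    ∃ L' V', FBlk (S : Subgroup G) L' V' ∧ L' ≤ H ∧ H ≤ L' ⊔ T := by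
  have hbau : bau T = bau (S : Subgroup G) := LemmaK.Main.bau_eq S hT.2.1 hB
  have hw : WeakNormal 2 (bau T) := by
    rw [hbau]
    exact fun R hR hBR => le_normalizer_bau S hR hBR
  obtain ⟨A, hA, hoff⟩ := BlkGen.exists_off hT hP hc hJ hZ
  obtain ⟨hno, hcon⟩ := hFF G T H hT hP hc ⟨A, hA.2.1.trans hT.1, hoff⟩
  have hm := SQ1.FFOne.minH_of hT hP hc
  rcases hcon with ⟨F, _, _, _, k, hk, ⟨M⟩⟩ | ⟨k, m, hk, hm2, ⟨M⟩⟩
  · have : Nonempty (Fin k) := ⟨⟨0, hk⟩⟩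
    set N := (SQ1.FFOne.natKB_of hT hc hJ hk M).toFFK hm with hN
    obtain ⟨E, hE⟩ := N.toInK hm
    obtain ⟨L, hL⟩ := hE.exists_blk ⟨0, hk⟩
    have hpb := FBK.pb hm N hE hw hL
    have hF : FBlk (S : Subgroup G) L ⁅N.N ⟨0, hk⟩, L⁆ := by
      exact ⟨⟨_, _, by rw [← hbau]; exact hpb.fb⟩, by rw [← hbau]; exact hpb.block hw⟩
    exact ⟨_, _, hF, hL.LH hE, hL.sup_T hE le_sup_right le_sup_left⟩
  · have h := syT_of hm hJ M hk (by omega) SQ1.FFOf.cv_le SQ1.FFOf.cv_norm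
    obtain ⟨ι, J, X, Y, t, r, c⟩ := h.exists_ch
    have hin := c.main h Cfsg.Agent.Omega.SQ1.SymCyc.exists_pow
    obtain ⟨j, x, y, hTr⟩ := h.exists_tr
    obtain ⟨i, -⟩ := c.ex j x y hTr
    obtain ⟨L, hL⟩ := hin.exists_blk i
    have hpb := FBS.pb hin hw hL
    have hF : FBlk (S : Subgroup G) L ⁅h.NN (J i) 0 (X i) (Y i), L⁆ := by
      exact ⟨⟨_, _, by rw [← hbau]; exact hpb.fb⟩, by rw [← hbau]; exact hpb.block hw⟩
    exact ⟨_, _, hF, hL.LP.trans (hin.PP_le i), hL.sup_T hin le_sup_right le_sup_left⟩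

namespace Bfr

variable {ι : Type*} {S : Sylow 2 G} {Q V : Subgroup G} {L W Z C A : ι → Subgroup G} {q : ι → ℕ} {m : ℕ}
  (h : Bfr S Q V L W Z C A q m)
include h

/-- `C_G(Z_J) ≤ Y i` -/
theorem cent_le (i : ι) : centralizer (zj (S : Subgroup G) : Set G) ≤ YY Z i := by
  refine centralizer_le ?_
  exact_mod_cast (iSup_le fun j => h.fr.Z_le j : (⨆ j : {j : ι // j ≠ i}, Z j) ≤ zj (S : Subgroup G))

variable [Finite G]

theorem bau_two : IsPGroup 2 (bau (S : Subgroup G)) := S.isPGroup'.to_le (bau_le _)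

variable [Finite ι]

/-- **UNI+** over the frame. -/
theorem blk {L' V' Z' : Subgroup G} {q' : ℕ} (h' : FB (bau (S : Subgroup G)) L' V' Z' q') :
    ∃ i, q' = q i ∧ Z' = Z i ∧ NB (bau (S : Subgroup G)) L' V' (Z i) (q i) ∧ V' ≤ W i ⊔ zj (S : Subgroup G) ∧
      L' ≤ YY Z i ∧ (∀ z ∈ zj (S : Subgroup G), z ∈ C i ↔ ∀ l ∈ L', l * z = z * l) := by
  obtain ⟨i, h1, h2, h3, h4⟩ := uniPlus' h.char2 h.fr h.bau_two (UniPlus.wc_bau S) h.com h.two h'
  rcases h4 with ⟨h4, h5, -⟩ | ⟨h4, h5, -⟩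
  · refine ⟨i, h1, h2, h3, h4, fun l hl => ?_, h5⟩
    rw [YY, mem_centralizer_iff, ← h.fr.inf_C i]
    intro z hz
    obtain ⟨hz1, hz2⟩ := mem_inf.1 hz
    exact ((h5 z hz1).1 hz2 l hl).symm
  · exact absurd ⟨h4, h5⟩ h.four

/-- the blocks `L i` -/
theorem L_le (i : ι) : L i ≤ YY Z i := by
  intro l hl
  rw [YY, mem_centralizer_iff, ← h.fr.inf_C i]
  intro z hz
  obtain ⟨hz1, hz2⟩ := mem_inf.1 hz
  exact (h.fr.LC i l hl z hz1 hz2).symm

/-- `N_G(Z_J)` permutes the `Z i`. -/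
theorem perm {g : G} (hg : g ∈ normalizer (zj (S : Subgroup G) : Set G)) (i : ι) :
    ∃ j, q i = q j ∧ cj g (Z i) = Z j := by
  obtain ⟨d, hd, n, hn, rfl⟩ := Dich.exists_frattini S hg
  obtain ⟨j, h1, h2, -⟩ := (h.fr.norm_of hn (h.com n hn)).2 i
  refine ⟨j, h1, ?_⟩
  rw [← cj_cj, h2]
  have h3 : d ∈ centralizer (Z j : Set G) := centralizer_le (by exact_mod_cast h.fr.Z_le j) hd
  exact mem_normalizer_iff_cj.1 (centralizer_le_normalizer _ h3)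

theorem cj_YY {g : G} (hg : g ∈ normalizer (zj (S : Subgroup G) : Set G)) {i j : ι} (hij : cj g (Z i) = Z j) :
    cj g (YY Z i) = YY Z j := by
  have key : ∀ {g : G}, g ∈ normalizer (zj (S : Subgroup G) : Set G) → ∀ {i j : ι}, cj g (Z i) = Z j →
      cj g (⨆ k : {k : ι // k ≠ i}, Z k) ≤ ⨆ k : {k : ι // k ≠ j}, Z k := by
    intro g hg i j hij
    have e : cj g (⨆ k : {k : ι // k ≠ i}, Z k) = ⨆ k : {k : ι // k ≠ i}, cj g (Z k) := Subgroup.map_iSup _ _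
    rw [e]
    refine iSup_le fun k => ?_
    obtain ⟨l, -, hl⟩ := h.perm hg k
    rw [hl]
    refine le_iSup (fun k : {k : ι // k ≠ j} => Z k) ⟨l, fun hlj => k.2 ?_⟩
    subst hlj
    apply h.fr.Z_inj
    have h1 := congrArg (cj g⁻¹) (hl.trans hij.symm)
    rwa [cj_inv_cj, cj_inv_cj] at h1
  have h1 : cj g (⨆ k : {k : ι // k ≠ i}, Z k) = ⨆ k : {k : ι // k ≠ j}, Z k := by
    refine le_antisymm (key hg hij) ?_
    have h2 := key (inv_mem hg) (i := j) (j := i) (by rw [← hij, cj_inv_cj])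
    have h3 := cj_mono g h2
    rwa [cj_cj, mul_inv_cancel, cj_one] at h3
  rw [YY, YY, cj_centralizer, h1]

/-- `N_G(Z_J)` normalises `E`. -/
theorem norm_E : normalizer (zj (S : Subgroup G) : Set G) ≤ normalizer (EE Z : Set G) := by
  intro g hg
  refine mem_normalizer_of_cj_le ?_
  have e : cj g (EE Z) = ⨆ i, cj g (YY Z i) := Subgroup.map_iSup _ _
  rw [e]
  refine iSup_le fun i => ?_
  obtain ⟨j, -, hj⟩ := h.perm hg i
  rw [h.cj_YY hg hj]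
  exact YY_le_EE Z j

/-- an FF-block lies in some `Y i` -/
theorem fblk_le {L' V' : Subgroup G} (h' : FBlk (S : Subgroup G) L' V') : ∃ i, L' ≤ YY Z i ∧
    ∀ z ∈ Z i, (∀ l ∈ L', l * z = z * l) → z = 1 := by
  obtain ⟨⟨Z', q', h1⟩, -⟩ := h'
  obtain ⟨i, h2, h3, h4, h5, h6, h7⟩ := h.blk h1
  exact ⟨i, h6, fun z hz hc => h4.cent hz hc⟩

theorem K0_le [hne : Nonempty ι] : Dich.K0 (S : Subgroup G) (FBlk (S : Subgroup G)) ≤ EE Z := by
  obtain ⟨i⟩ := hne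
  refine sup_le ((h.cent_le i).trans (YY_le_EE Z i)) (iSup_le fun x => ?_)
  obtain ⟨j, hj, -⟩ := h.fblk_le x.2
  exact hj.trans (YY_le_EE Z j)

/-- A minimal parabolic over a 2-group `T ≥ B` which moves `Ω₁(Z(T))` lies in `N_G(Z_J)` or is generated by `T` and a
block `L' ≤ Y i` which moves every nontrivial element of `Z i`. -/
theorem par (hFF : FFThm.Stmt.{u}) {T R : Subgroup G} (hT : Syl T R) (hB : bau (S : Subgroup G) ≤ T)
    (hP : IsMinPar T R) (hc : R ⊓ centralizer (o2 R : Set G) ≤ o2 R) (hZ : ¬ R ≤ centralizer (zc T : Set G)) :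
    R ≤ normalizer (zj (S : Subgroup G) : Set G) ∨ ∃ i L', R ≤ L' ⊔ T ∧ L' ≤ R ∧ L' ≤ YY Z i ∧
      ∀ z ∈ Z i, (∀ l ∈ L', l * z = z * l) → z = 1 := by
  by_cases hJ : jj T ≤ o2 R
  · left
    have h2 : o2 R ≤ T := o2_le_syl hT
    have h3 : jj (o2 R) = jj T := jj_eq_of_jj_le hJ h2
    have h4 : R ≤ normalizer (jj (S : Subgroup G) : Set G) := by
      rw [← LemmaK.Main.jj_eq S hT.2.1 hB, ← h3]
      exact (le_normalizer_o2 R).trans (normalizer_le_jj _)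
    refine h4.trans ?_
    have h7 := normalizer_le_of_cj (F := zj) zj_cj (jj (S : Subgroup G))
    have h8 : zj (jj (S : Subgroup G)) = zj (S : Subgroup G) := zj_congr (jj_eq_of_jj_le le_rfl (jj_le _))
    rwa [h8] at h7
  · right
    obtain ⟨L', V', h1, h2, h3⟩ := exists_blk hFF S hT hB hP hc hJ hZ
    obtain ⟨i, h4, h5⟩ := h.fblk_le h1
    exact ⟨i, L', h3, h2, h4, h5⟩

/-- the same for the product -/
theorem par_le (hFF : FFThm.Stmt.{u}) {T R : Subgroup G} (hT : Syl T R) (hB : bau (S : Subgroup G) ≤ T)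
    (hP : IsMinPar T R) (hc : R ⊓ centralizer (o2 R : Set G) ≤ o2 R) (hZ : ¬ R ≤ centralizer (zc T : Set G)) :
    R ≤ EE Z ⊔ normalizer (zj (S : Subgroup G) : Set G) := by
  have hTN : T ≤ normalizer (zj (S : Subgroup G) : Set G) :=
    (Dich.two_le S hT.2.1 hB).trans (Dich.norm_zj _)
  rcases h.par hFF hT hB hP hc hZ with h1 | ⟨i, L', h1, -, h2, -⟩
  · exact h1.trans le_sup_right
  · exact h1.trans (sup_le ((h2.trans (YY_le_EE Z i)).trans le_sup_left) (hTN.trans le_sup_right))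

/-- a 2-group normalised by all `L i` centralises `Z_J` -/
theorem le_cent {U : Subgroup G} (hU : IsPGroup 2 U) (hL : ∀ i, L i ≤ normalizer (U : Set G)) :
    U ≤ centralizer (zj (S : Subgroup G) : Set G) := by
  have hf : Fact (Nat.Prime 2) := ⟨Nat.prime_two⟩
  rw [h.fr.ZJ_eq]
  refine le_centralizer_iff.1 (iSup_le fun i => ?_)
  have h1 := (nb h.fr i).block (UniPlus.wc_bau S) h.bau_two
  exact ((h.fr.blk i).ZV).trans (le_centralizer_iff.1 (h1.le_centralizer hU (hL i)))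

/-- If `E` normalises a 2-group `≠ 1` then `⟨E, N_G(Z_J)⟩` normalises `O₂(E) ≠ 1`, and `O₂(E) ≤ B`. -/
theorem loc [hne : Nonempty ι] {U : Subgroup G} (hU : IsPGroup 2 U) (hU1 : U ≠ ⊥)
    (hE : EE Z ≤ normalizer (U : Set G)) :
    o2 (EE Z) ≠ ⊥ ∧ o2 (EE Z) ≤ bau (S : Subgroup G) ∧
      EE Z ⊔ normalizer (zj (S : Subgroup G) : Set G) ≤ normalizer (o2 (EE Z) : Set G) := by
  obtain ⟨i⟩ := hne
  have hDE : centralizer (zj (S : Subgroup G) : Set G) ≤ EE Z := (h.cent_le i).trans (YY_le_EE Z i)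
  have hLE : ∀ i, L i ≤ EE Z := fun i => (h.L_le i).trans (YY_le_EE Z i)
  have h1 : U ≤ EE Z := (h.le_cent hU fun i => (hLE i).trans hE).trans hDE
  have h2 : U ≤ o2 (EE Z) := le_o2 hU h1 hE
  have h3 : o2 (EE Z) ≤ centralizer (zj (S : Subgroup G) : Set G) :=
    h.le_cent (isPGroup_o2 _) fun i => (hLE i).trans (le_normalizer_o2 _)
  refine ⟨fun h => hU1 (by rw [eq_bot_iff, ← h]; exact h2), ?_, sup_le (le_normalizer_o2 _) ?_⟩
  · have h4 : o2 (EE Z) ≤ o2 (centralizer (zj (S : Subgroup G) : Set G)) :=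
      le_o2 (isPGroup_o2 _) h3 (hDE.trans (le_normalizer_o2 _))
    exact h4.trans (o2_le_syl (Dich.syl S))
  · intro n hn
    rw [mem_normalizer_iff_cj, ← pCore_cj, mem_normalizer_iff_cj.1 (h.norm_E hn)]

/-- **(O1+)** for `M ≥ E, N_G(B)`. -/
theorem gen [Nonempty ι] (hFF : FFThm.Stmt.{u}) (hA : FFBr.AStmt.{u}) {M T H : Subgroup G} (hE : EE Z ≤ M)
    (hN : normalizer (bau (S : Subgroup G) : Set G) ≤ M) (hT : Syl T H) (hB : bau (S : Subgroup G) ≤ T)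
    (hc : H ⊓ centralizer (o2 H : Set G) ≤ o2 H) :
    H ≤ (H ⊓ M) ⊔ ⨆ Y : {Y : Subgroup G // IsMinPar T Y ∧ Y ≤ H ∧ ¬ jj T ≤ o2 Y ∧
      Y ≤ centralizer (zc T : Set G) ∧ ¬ o2 Y ≤ bau (S : Subgroup G)}, (Y : Subgroup G) :=
  BlkGen.gen hFF hA (h.K0_le.trans hE) hN hT hB hc

/-- `⟨P*(S)⟩ ≤ ⟨E, N_G(Z_J)⟩` -/
theorem parS_le (hFF : FFThm.Stmt.{u}) :
    sSup {P : Subgroup G | IsParS (S : Subgroup G) P} ≤ EE Z ⊔ normalizer (zj (S : Subgroup G) : Set G) := by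
  refine sSup_le fun P hP => ?_
  have hT : Syl (S : Subgroup G) P := ⟨hP.le, S.isPGroup', fun Q _ h2 h3 => S.3 h2 h3⟩
  exact h.par_le hFF hT (bau_le _) hP.toIsMinPar (hP.isLoc.char2 S h.char2)
    fun hc => hP.not_zc (hc.trans (centralizer_le_normalizer _))

/-- **GI (0)**: `C_G(Z) ≤ N_G(Z_J)` and `⟨P*(S), C_G(Z)⟩` nonlocal: `E` is nonlocal. -/
theorem nonLoc [Nonempty ι] (hFF : FFThm.Stmt.{u})
    (hC : centralizer (zc (S : Subgroup G) : Set G) ≤ normalizer (zj (S : Subgroup G) : Set G))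
    (hnl : NonLoc (sSup {P : Subgroup G | IsParS (S : Subgroup G) P}) (centralizer (zc (S : Subgroup G) : Set G)))
    {U : Subgroup G} (hU : IsPGroup 2 U) (hE : EE Z ≤ normalizer (U : Set G)) : U = ⊥ := by
  by_contra hU1
  obtain ⟨h1, -, h2⟩ := h.loc hU hU1 hE
  exact h1 (hnl _ (isPGroup_o2 _) ((h.parS_le hFF).trans h2) (hC.trans (le_sup_right.trans h2)))

end Bfr

end Cfsg.Agent.Omega.OM.Var
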