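import Cfsg.Agent.Omega.OM.FixLem
import Cfsg.Agent.Omega.OM.Lev.HU
import Cfsg.Agent.Omega.OM.Var.GIZero

/-!
# hU over `B = bau S`, blocks over different fields (level 0)

* `fix_ZJ`, `fix_Z` : LEMMA FIX for the frame `Var.Fr`: `e ∈ Q` an involution with `[e, Q] ≤ Z i` lies in `V`;
* `Bfr.com_three` : `k ≠ i, l`: `W l` commutes with its conjugates under `C_G(Z k)`;
* `Bfr.hU` : `T ≥ B` a Sylow 2-subgroup of the minimal parabolic `R ≤ Y i`, `R` moves `Ω₁(Z(T))` and does not normalise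
  `Z i`, `(W l)^R` commutes with `W l` for `l ≠ i` (three blocks: automatic): `R = ⟨L', T⟩`, `L'` a natural block over `B` with
  `Z' = Z i`, `V' ≤ W i Z_J`; `R` normalises `W i Z_J`, `C_B(W i)` and `V`;
* `Bfr.hW` : if moreover `N_G(V)` permutes the `W k`: `R` normalises all `W k` and centralises `W l / Z l`, `l ≠ i`.
-/

set_option autoImplicit false

namespace Cfsg.Agent.Omega.OM.Var

open Subgroup Cfsg Cfsg.Agent.ZN.ChoiceBase Cfsg.Agent.ZN.ChoiceSit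
open Cfsg.Agent.PLocal.ElemAbSup
open Cfsg.Agent.ZN (jj zj bau zc zl o2)
open Cfsg.Agent.MinSimple.MinParabolic (IsMinPar)
open Cfsg.Agent.Omega.SQ1.Bau (mem_sup_comm card_sup_comm elem_comm elem_sq)
open Cfsg.Agent.Omega.OM.BlockUniq (Mx)
open Cfsg.Agent.Omega.OM.FixLem (Fx relIndex_mul_card off_of_mx)
open Cfsg.Agent.Omega.OM.Uni (Md FB)
open Cfsg.Agent.Omega.OM.UniPlus (NB)
open Cfsg.Agent.Omega.OM.BlkGen (FBlk)

universe u

variable {G : Type u} [Group G]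

/-! ### LEMMA FIX -/

section frame

variable {ι : Type*} {B Q V ZJ : Subgroup G} {L W Z C A : ι → Subgroup G} {q : ι → ℕ} {m : ℕ}

theorem fx [Finite G] (h : Fr B Q V ZJ L W Z C A q m) (i : ι) {y : Subgroup G} (hy : y ≤ V)
    (hyi : y ⊓ (Z i ⊔ C i) = ⊥) : Fx (A i) Q V (Z i) y (q i) := by
  have hAL : ∀ a ∈ A i, a ∈ L i := fun a ha => (h.blk i).BL (h.AB i ha)
  have hcV : ∀ a ∈ A i, (∀ v ∈ W i, a * v = v * a) → ∀ v ∈ V, a * v = v * a := fun a ha hw v hv =>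
    h.cQ (h.A_Q ha hw) hv
  refine
    { Ael := h.Ael i
      Vel := h.el
      VQ := h.VQ
      VcQ := fun v hv x hx => (h.cQ hx hv).symm
      AQ := fun a ha => h.cj_Q (hAL a ha)
      cA := fun a ha hc => (h.mem_Q a (h.AB i ha)).2 hc
      RV := h.ZV i
      RA := fun a ha r hr => (h.blk i).cZ a (h.AB i ha) r hr
      com := fun a ha v hv => h.A_comm ha hv
      cardR := h.cardZ i
      cardA := ?_
      cardV := ?_
      free := ?_
      yV := hy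
      yA := ?_
      off := fun X hX _ _ _ => off_of_mx h.max (h.Ael i) (h.Am i) hX }
  · have h1 : A i ⊓ centralizer (V : Set G) = A i ⊓ centralizer (W i : Set G) := by
      apply le_antisymm
      · exact inf_le_inf_left _ (centralizer_le (by exact_mod_cast h.WV i))
      · rintro a ⟨ha, hac⟩
        refine ⟨ha, mem_centralizer_iff.2 fun v hv => ?_⟩
        exact (hcV a ha (fun w hw => (mem_centralizer_iff.1 hac w hw).symm) v hv).symm
    have h2 := relIndex_mul_card (centralizer (V : Set G)) (A i)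
    rw [h1, ← (h.A_full i).2.2] at h2
    exact Nat.eq_of_mul_eq_mul_right Nat.card_pos h2
  · have h2 := relIndex_mul_card (centralizer (A i : Set G)) V
    rw [h.card_CVA i, mul_comm] at h2
    exact Nat.eq_of_mul_eq_mul_left Nat.card_pos h2
  · intro a ha v hv hav hvc
    obtain ⟨w, hw, c, hc, rfl⟩ := h.WC i v hv
    have h1 := h.AC i a ha c hc
    have h2 : a * w = w * a := by
      calc a * w = a * (w * c) * c⁻¹ := by group
        _ = (w * c) * a * c⁻¹ := by rw [hav]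
        _ = w * (c * a) * c⁻¹ := by group
        _ = w * (a * c) * c⁻¹ := by rw [h1]
        _ = w * a := by group
    refine hcV a ha ((h.blk i).free a (h.AB i ha) w hw (fun hwZ => hvc ?_) h2)
    have h3 : w * c ∈ V ⊓ centralizer (A i : Set G) := by
      rw [h.CVA i]
      exact mul_mem (mem_sup_left hwZ) (mem_sup_right hc)
    exact h3.2
  · intro u hu hc
    have h1 : u ∈ V ⊓ centralizer (A i : Set G) := ⟨hy hu, mem_centralizer_iff.2 hc⟩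
    rw [h.CVA i] at h1
    have h2 : u ∈ y ⊓ (Z i ⊔ C i) := ⟨hu, h1⟩
    rwa [hyi, mem_bot] at h2

/-- **LEMMA FIX**, `y ≤ V` with `y ∩ C_V(A i) = 1`. -/
theorem fix [Finite G] (h : Fr B Q V ZJ L W Z C A q m) {i : ι} {y : Subgroup G} (hy : y ≤ V)
    (hyi : y ⊓ (Z i ⊔ C i) = ⊥) {e : G} (he : e ∈ Q) (he2 : e ^ 2 = 1)
    (hey : ∀ x ∈ Q, e * x * e⁻¹ * x⁻¹ ∈ y) : e ∈ V :=
  h.zcQ e he he2 ((fx h i hy hyi).main (h.blk i).one he (by rw [← pow_two]; exact he2) hey)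

/-- **LEMMA FIX**: `e ∈ Q` an involution, `[e, Q] ≤ y ≤ Z_J`, `y ∩ C i = 1`; then `e ∈ V`. -/
theorem fix_ZJ [Finite G] (h : Fr B Q V ZJ L W Z C A q m) {i : ι} {y : Subgroup G} (hy : y ≤ ZJ)
    (hyC : y ⊓ C i = ⊥) {e : G} (he : e ∈ Q) (he2 : e ^ 2 = 1)
    (hey : ∀ x ∈ Q, e * x * e⁻¹ * x⁻¹ ∈ y) : e ∈ V := by
  obtain ⟨l, hl, hmv⟩ := h.exists_mv i
  have h1 : l * e * l⁻¹ ∈ V := by
    refine fix h (i := i) (y := cj l y) ?_ ?_ (h.LQ i l hl e he) ?_ fun x hx => ?_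
    · rw [← h.cj_V hl]
      exact cj_mono l (hy.trans h.ZJV)
    · rw [eq_bot_iff]
      rintro _ ⟨⟨u, hu, rfl⟩, hu2⟩
      change l * u * l⁻¹ ∈ Z i ⊔ C i at hu2
      change l * u * l⁻¹ ∈ (⊥ : Subgroup G)
      obtain ⟨w, hw, c, hc, hcJ, e1⟩ := h.split_ZJ i (hy hu)
      obtain ⟨z, hz, c', hc', e2⟩ := mem_sup_comm (fun a ha b hb => h.Vc (h.ZV i ha) (h.CV i hb)) hu2
      have hlc := h.LC i l hl c hcJ hc
      have e3 : (l * w * l⁻¹) * c = z * c' := by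
        rw [← e2, e1]
        calc l * w * l⁻¹ * c = l * w * l⁻¹ * (c * l) * l⁻¹ := by group
          _ = l * w * l⁻¹ * (l * c) * l⁻¹ := by rw [hlc]
          _ = l * (w * c) * l⁻¹ := by group
      have h3 := h.uniq (i := i) ((h.blk i).nV l hl w ((h.blk i).ZV hw)) ((h.blk i).ZV hz) hc hc' e3
      have h4 : l * w * l⁻¹ ∈ cj l (Z i) ⊓ Z i := ⟨⟨w, hw, rfl⟩, by rw [h3.1]; exact hz⟩
      rw [h.tri' hl hmv, mem_bot] at h4
      have hw1 : w = 1 := by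
        have h5 := congrArg (fun t => l⁻¹ * t * l) h4
        simpa [mul_assoc] using h5
      have h5 : u ∈ y ⊓ C i := ⟨hu, by rw [e1, hw1, one_mul]; exact hc⟩
      rw [hyC, mem_bot] at h5
      rw [h5, mem_bot]; group
    · have e1 : (l * e * l⁻¹) ^ 2 = l * e ^ 2 * l⁻¹ := by rw [pow_two, pow_two]; group
      rw [e1, he2]; group
    · rw [mem_cj]
      have h2 := h.LQ i l⁻¹ (inv_mem hl) x hx
      rw [inv_inv] at h2
      have h3 := hey _ h2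
      have e1 : l⁻¹ * (l * e * l⁻¹ * x * (l * e * l⁻¹)⁻¹ * x⁻¹) * l =
        e * (l⁻¹ * x * l) * e⁻¹ * (l⁻¹ * x * l)⁻¹ := by group
      rwa [e1]
  have h2 := h.LV i l⁻¹ (inv_mem hl) _ h1
  have e1 : l⁻¹ * (l * e * l⁻¹) * l⁻¹⁻¹ = e := by group
  rwa [e1] at h2

/-- **LEMMA FIX** for `y = Z i` (helper609 #19750 (1), all `q`). -/
theorem fix_Z [Finite G] (h : Fr B Q V ZJ L W Z C A q m) {i : ι} {e : G} (he : e ∈ Q) (he2 : e ^ 2 = 1)
    (hey : ∀ x ∈ Q, e * x * e⁻¹ * x⁻¹ ∈ Z i) : e ∈ V := by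
  refine fix_ZJ h (i := i) (h.Z_le i) ?_ he he2 hey
  rw [eq_bot_iff, ← h.dir i]
  exact inf_le_inf_right _ (h.blk i).ZV

end frame

/-! ### hU -/

namespace Bfr

variable {ι : Type*} {S : Sylow 2 G} {Q V : Subgroup G} {L W Z C A : ι → Subgroup G} {q : ι → ℕ} {m : ℕ}
  (h : Bfr S Q V L W Z C A q m) [Finite G] [Finite ι]
include h

omit [Finite G] [Finite ι] in
/-- `x ∈ Y i` centralises `Z l`, `l ≠ i`. -/
theorem YZ {i l : ι} (hl : l ≠ i) {x : G} (hx : x ∈ YY Z i) {z : G} (hz : z ∈ Z l) : x * z = z * x := by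
  have _ := h
  exact (mem_centralizer_iff.1 hx z ((le_iSup (fun j : {j : ι // j ≠ i} => Z j) ⟨l, hl⟩) hz)).symm

/-- an element of `N_G(Z_J) ∩ Y i` normalises `Z i` -/
theorem norm_Zi {i : ι} {g : G} (hg : g ∈ normalizer (zj (S : Subgroup G) : Set G)) (hgY : g ∈ YY Z i) :
    cj g (Z i) = Z i := by
  obtain ⟨j, -, hj⟩ := h.perm hg i
  by_cases hji : j = i
  · rw [hj, hji]
  exfalso
  have h1 : cj g (Z j) = Z j := by
    have h2 : g ∈ centralizer (Z j : Set G) := mem_centralizer_iff.2 fun z hz => (h.YZ hji hgY hz).symm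
    exact mem_normalizer_iff_cj.1 (centralizer_le_normalizer _ h2)
  have h2 := congrArg (cj g⁻¹) (hj.trans h1.symm)
  rw [cj_inv_cj, cj_inv_cj] at h2
  exact hji (h.fr.Z_inj h2).symm

/-- a 2-group `T ≥ B` inside `Y i` normalises `W i Z_J` -/
theorem T_norm {i : ι} {T : Subgroup G} (hT2 : IsPGroup 2 T) (hB : bau (S : Subgroup G) ≤ T) (hTY : T ≤ YY Z i) :
    T ≤ normalizer ((W i ⊔ zj (S : Subgroup G) : Subgroup G) : Set G) := by
  intro t ht
  have hn := Dich.two_le S hT2 hB ht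
  have hnJ := Dich.norm_zj (S : Subgroup G) hn
  obtain ⟨j, -, hj, hW⟩ := (h.fr.norm_of hn (h.com t hn)).2 i
  have h1 := h.norm_Zi hnJ (hTY ht)
  have hji : j = i := (h.fr.Z_inj (h1.symm.trans hj)).symm
  subst hji
  refine mem_normalizer_of_cj_le ?_
  have e : cj t (W j ⊔ zj (S : Subgroup G)) = cj t (W j) ⊔ cj t (zj (S : Subgroup G)) := Subgroup.map_sup _ _ _
  rw [e, cj_eq_of_mem_normalizer hnJ]
  exact sup_le hW le_sup_right

omit [Finite ι] in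
/-- `T ∩ C_G(Z_J) = B` for a 2-group `T ≥ B` -/
theorem T_inf {T : Subgroup G} (hT2 : IsPGroup 2 T) (hB : bau (S : Subgroup G) ≤ T) :
    T ⊓ centralizer (zj (S : Subgroup G) : Set G) = bau (S : Subgroup G) := by
  have _ := h
  exact (Dich.syl S).2.2 _ inf_le_right (hT2.to_le inf_le_left) (le_inf hB (Dich.syl S).1)

/-- `W l` commutes with its conjugates under `C_G(Z k)`, `k ≠ l`. -/
theorem com_three {i l k : ι} (hki : k ≠ i) (hkl : k ≠ l) {r : G} (hr : r ∈ YY Z i) {w w' : G} (hw : w ∈ W l)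
    (hw' : w' ∈ W l) : r * w * r⁻¹ * w' = w' * (r * w * r⁻¹) := by
  have hf : Fact (Nat.Prime 2) := ⟨Nat.prime_two⟩
  obtain ⟨z, hz, hz1⟩ := h.fr.exists_ne k
  have hz2 : z ^ 2 = 1 := elem_sq h.fr.el z (h.fr.ZV k hz)
  set H : Subgroup G := normalizer (zpowers z : Set G) with hH
  have hU : IsPGroup 2 (zpowers z) := MinSimple.Basic.isPGroup_zpowers hz2
  have hU1 : zpowers z ≠ ⊥ := by rw [Ne, zpowers_eq_bot]; exact hz1
  have hc := MinSimple.Basic.char2_normalizer h.char2 hU hU1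
  rw [← hH] at hc
  have hcH : ∀ x : G, x * z = z * x → x ∈ H := by
    intro x hx
    refine centralizer_le_normalizer _ (mem_centralizer_iff.2 ?_)
    rintro _ ⟨n, rfl⟩
    have c1 : Commute x z := hx
    exact (c1.zpow_right n).symm.eq
  have hLH : L l ≤ H := fun x hx => hcH x (h.YZ hkl (h.L_le l hx) hz)
  have hrH : r ∈ H := hcH r (h.YZ hki hr hz)
  have h1 := ((nb h.fr l).block (UniPlus.wc_bau S) h.bau_two).le_centralizer (isPGroup_o2 H)
    (hLH.trans (le_normalizer_o2 H))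
  have h3 : W l ≤ o2 H := by
    intro v hv
    refine hc ⟨hLH ((h.fr.blk l).BL ((h.fr.blk l).VB hv)), mem_centralizer_iff.2 fun w hw => ?_⟩
    exact (mem_centralizer_iff.1 (h1 hw) v hv).symm
  have h4 : r * w * r⁻¹ ∈ o2 H := (mem_normalizer_iff.1 (le_normalizer_o2 H hrH) w).1 (h3 hw)
  exact (mem_centralizer_iff.1 (h1 h4) w' hw').symm

/-- **hU** over `B`, blocks over different fields. -/
theorem hU (hFF : FFThm.Stmt.{u}) {i : ι} {T R : Subgroup G} (hT : Syl T R) (hB : bau (S : Subgroup G) ≤ T)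
    (hP : IsMinPar T R) (hc : R ⊓ centralizer (o2 R : Set G) ≤ o2 R) (hRY : R ≤ YY Z i)
    (hmv : ¬ R ≤ normalizer (Z i : Set G)) (hz : ¬ R ≤ centralizer (zc T : Set G))
    (hcom : ∀ l, l ≠ i → ∀ r ∈ R, ∀ w ∈ W l, ∀ w' ∈ W l, r * w * r⁻¹ * w' = w' * (r * w * r⁻¹)) :
    (∃ L' V', FBlk (S : Subgroup G) L' V' ∧ NB (bau (S : Subgroup G)) L' V' (Z i) (q i) ∧
      V' ≤ W i ⊔ zj (S : Subgroup G) ∧ L' ≤ R ∧ R ≤ L' ⊔ T) ∧
    R ≤ normalizer ((W i ⊔ zj (S : Subgroup G) : Subgroup G) : Set G) ∧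
    R ≤ normalizer ((bau (S : Subgroup G) ⊓ centralizer (W i : Set G) : Subgroup G) : Set G) ∧
    R ≤ normalizer (V : Set G) := by
  have hTY : T ≤ YY Z i := hT.1.trans hRY
  have hTW := h.T_norm hT.2.1 hB hTY
  have hTZ : T ≤ normalizer (Z i : Set G) := fun t ht => mem_normalizer_iff_cj.2
    (h.norm_Zi (Dich.norm_zj _ (Dich.two_le S hT.2.1 hB ht)) (hTY ht))
  -- the block
  have hJ : ¬ jj T ≤ o2 R := by
    intro hJ
    apply hmv
    have h2 : o2 R ≤ T := o2_le_syl hT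
    have h3 : jj (o2 R) = jj T := jj_eq_of_jj_le hJ h2
    have h4 : R ≤ normalizer (jj (S : Subgroup G) : Set G) := by
      rw [← LemmaK.Main.jj_eq S hT.2.1 hB, ← h3]
      exact (le_normalizer_o2 R).trans (normalizer_le_jj _)
    have h7 := normalizer_le_of_cj (F := zj) zj_cj (jj (S : Subgroup G))
    have h8 : zj (jj (S : Subgroup G)) = zj (S : Subgroup G) := zj_congr (jj_eq_of_jj_le le_rfl (jj_le _))
    rw [h8] at h7
    exact fun r hr => mem_normalizer_iff_cj.2 (h.norm_Zi (h7 (h4 hr)) (hRY hr))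
  obtain ⟨L', V', hF, hLR, hRL⟩ := exists_blk hFF S hT hB hP hc hJ hz
  obtain ⟨Z', q', hFB⟩ := hF.fb
  obtain ⟨j, -, -, hN, hV', -, -⟩ := h.blk hFB
  have hji : j = i := by
    by_contra hji
    obtain ⟨z, hz, hz1⟩ := h.fr.exists_ne j
    exact hz1 (hN.cent hz fun l hl => h.YZ hji (hRY (hLR hl)) hz)
  subst hji
  have hLW : L' ≤ normalizer ((W j ⊔ zj (S : Subgroup G) : Subgroup G) : Set G) := by
    have h1 := UniPlus.sup_zc_eq (nb h.fr j) hN (by rw [h.fr.zcB]; exact hV')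
    rw [h.fr.zcB] at h1
    rw [h1, ← h.fr.zcB]
    exact UniPlus.norm_of_forall fun l hl a ha => UniPlus.nE hN.toFB hl ha
  have hRW : R ≤ normalizer ((W j ⊔ zj (S : Subgroup G) : Subgroup G) : Set G) := hRL.trans (sup_le hLW hTW)
  -- `T₀ = C_B(W i)`
  have hT0 : R ≤ normalizer ((bau (S : Subgroup G) ⊓ centralizer (W j : Set G) : Subgroup G) : Set G) := by
    have h1 : T ⊓ centralizer ((W j ⊔ zj (S : Subgroup G) : Subgroup G) : Set G) =
        bau (S : Subgroup G) ⊓ centralizer (W j : Set G) := by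
      rw [← h.T_inf hT.2.1 hB]
      apply le_antisymm
      · exact le_inf (le_inf inf_le_left (inf_le_right.trans (centralizer_le (by exact_mod_cast le_sup_right))))
          (inf_le_right.trans (centralizer_le (by exact_mod_cast le_sup_left)))
      · refine le_inf (inf_le_left.trans inf_le_left) (le_centralizer_iff.1 (sup_le ?_ ?_))
        · exact le_centralizer_iff.1 inf_le_right
        · exact le_centralizer_iff.1 (inf_le_left.trans inf_le_right)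
    rw [← h1]
    refine HU.norm_inf hP hT (hRW.trans Dich.norm_cent) fun hle => hmv (hle.trans (sup_le ?_ hTZ))
    exact (inf_le_right.trans (centralizer_le (by exact_mod_cast (h.fr.Z_le j).trans le_sup_right))).trans
      (centralizer_le_normalizer _)
  have hRz : ∀ l, l ≠ j → ∀ r ∈ R, ∀ z ∈ Z l, r * z * r⁻¹ = z := fun l hl r hr z hz => by
    rw [h.YZ hl (hRY hr) hz]; group
  have hT0c : ∀ {r x : G}, r ∈ R → x ∈ bau (S : Subgroup G) ⊓ centralizer (W j : Set G) →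
      r * x * r⁻¹ ∈ bau (S : Subgroup G) ⊓ centralizer (W j : Set G) := fun hr hx => (mem_normalizer_iff.1 (hT0 hr) _).1 hx
  have hT0c' : ∀ {r x : G}, r ∈ R → x ∈ bau (S : Subgroup G) ⊓ centralizer (W j : Set G) →
      r⁻¹ * x * r ∈ bau (S : Subgroup G) ⊓ centralizer (W j : Set G) := fun hr hx => (mem_normalizer_iff''.1 (hT0 hr) _).1 hx
  have hVT : V ≤ bau (S : Subgroup G) ⊓ centralizer (W j : Set G) := fun v hv =>
    ⟨h.fr.QB (h.fr.VQ hv), mem_centralizer_iff.2 fun w hw => h.fr.Vc (h.fr.WV j hw) hv⟩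
  have hQT : Q ≤ bau (S : Subgroup G) ⊓ centralizer (W j : Set G) := fun v hv =>
    ⟨h.fr.QB hv, mem_centralizer_iff.2 fun w hw => (h.fr.cQ hv (h.fr.WV j hw)).symm⟩
  -- `(W l)^r ≤ V`
  have key : ∀ l, l ≠ j → ∀ r ∈ R, ∀ w ∈ W l, r * w * r⁻¹ ∈ V := by
    intro l hl r hr w hw
    have hx := hT0c hr (hVT (h.fr.WV l hw))
    have hxQ : r * w * r⁻¹ ∈ Q := by
      refine (h.fr.mem_Q _ hx.1).2 fun v hv => ?_
      have h1 : (⨆ k, W k) ≤ centralizer ({r * w * r⁻¹} : Set G) := by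
        refine iSup_le fun k v hv => mem_centralizer_singleton_iff.2 ?_
        by_cases hkj : k = j
        · subst hkj
          exact mem_centralizer_iff.1 hx.2 v hv
        by_cases hkl : k = l
        · subst hkl
          exact (hcom k hkj r hr w hw v hv).symm
        -- `k ≠ j, l`
        have h2 := (h.fr.blk k).com _ hx.1 v hv
        have h3 := (h.fr.blk l).com _ (hT0c' hr (hVT (h.fr.WV k hv))).1 w hw
        have h4 := hRz l hl r hr _ h3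
        have e : r * (r⁻¹ * v * r * w * (r⁻¹ * v * r)⁻¹ * w⁻¹) * r⁻¹ =
            v * (r * w * r⁻¹) * v⁻¹ * (r * w * r⁻¹)⁻¹ := by group
        rw [e] at h4
        have h5 : v * (r * w * r⁻¹) * v⁻¹ * (r * w * r⁻¹)⁻¹ ∈ Z l := by rw [h4]; exact h3
        have h6 : v * (r * w * r⁻¹) * v⁻¹ * (r * w * r⁻¹)⁻¹ ∈ Z k := by
          have e2 : v * (r * w * r⁻¹) * v⁻¹ * (r * w * r⁻¹)⁻¹ = (r * w * r⁻¹ * v * (r * w * r⁻¹)⁻¹ * v⁻¹)⁻¹ := by group
          rw [e2]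
          exact inv_mem h2
        have h7 := h.fr.Z_inf_C h6 (h.fr.Z_le_C (Ne.symm hkl) h5)
        exact mul_inv_eq_iff_eq_mul.1 (mul_inv_eq_one.1 h7)
      rw [h.fr.V_eq] at hv
      exact (mem_centralizer_singleton_iff.1 (h1 hv)).symm
    refine fix_Z h.fr (i := l) hxQ ?_ fun y hy => ?_
    · have h1 := elem_sq h.fr.el w (h.fr.WV l hw)
      have e1 : (r * w * r⁻¹) ^ 2 = r * w ^ 2 * r⁻¹ := by rw [pow_two, pow_two]; group
      rw [e1, h1]; group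
    · have h3 := (h.fr.blk l).com _ (hT0c' hr (hQT hy)).1 w hw
      have h4 := hRz l hl r hr _ h3
      have e : r * (r⁻¹ * y * r * w * (r⁻¹ * y * r)⁻¹ * w⁻¹) * r⁻¹ =
          y * (r * w * r⁻¹) * y⁻¹ * (r * w * r⁻¹)⁻¹ := by group
      rw [e] at h4
      have h5 : y * (r * w * r⁻¹) * y⁻¹ * (r * w * r⁻¹)⁻¹ ∈ Z l := by rw [h4]; exact h3
      have e2 : r * w * r⁻¹ * y * (r * w * r⁻¹)⁻¹ * y⁻¹ = (y * (r * w * r⁻¹) * y⁻¹ * (r * w * r⁻¹)⁻¹)⁻¹ := by group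
      rw [e2]
      exact inv_mem h5
  refine ⟨⟨L', V', hF, hN, hV', hLR, hRL⟩, hRW, hT0, fun r hr => mem_normalizer_of_cj_le ?_⟩
  have e1 : cj r (⨆ k, W k) = ⨆ k, cj r (W k) := Subgroup.map_iSup _ _
  conv_lhs => rw [h.fr.V_eq]
  rw [e1]
  refine iSup_le fun k => ?_
  by_cases hkj : k = j
  · subst hkj
    have h9 : cj r (W k) ≤ cj r (W k ⊔ zj (S : Subgroup G)) := cj_mono r le_sup_left
    rw [cj_eq_of_mem_normalizer (hRW hr)] at h9
    exact h9.trans (sup_le (h.fr.WV k) h.fr.ZJV)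
  · rintro _ ⟨w, hw, rfl⟩
    exact key k hkj r hr w hw

omit [Finite ι] in
/-- a 2-element which normalises `B`, `W l` and centralises `Z l` is trivial on `W l / Z l`. -/
theorem cent_y {l : ι} {t : G} (ht2 : ∃ k : ℕ, t ^ 2 ^ k = 1) (hn : t ∈ normalizer (bau (S : Subgroup G) : Set G))
    (htW : cj t (W l) = W l) (htz : ∀ z ∈ Z l, t * z = z * t) {w : G} (hw : w ∈ W l) :
    t * w * t⁻¹ * w⁻¹ ∈ Z l := by
  have hb := h.fr.blk l
  have hnB : ∀ b ∈ bau (S : Subgroup G), t * b * t⁻¹ ∈ bau (S : Subgroup G) := fun b hb => (mem_normalizer_iff.1 hn b).1 hb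
  have hnB' : ∀ b ∈ bau (S : Subgroup G), t⁻¹ * b * t ∈ bau (S : Subgroup G) := fun b hb => (mem_normalizer_iff''.1 hn b).1 hb
  have htz' : ∀ z ∈ Z l, t * z * t⁻¹ = z := fun z hz => by rw [htz z hz]; group
  have htW' : ∀ w ∈ W l, t * w * t⁻¹ ∈ W l := fun w hw => htW ▸ ⟨w, hw, rfl⟩
  have hWc : ∀ x ∈ W l, ∀ y ∈ W l, x * y = y * x := fun x hx y hy => hb.comm hx hy
  obtain ⟨m', hm⟩ := ht2
  have hex : ∃ w ∈ W l, w ∉ Z l := by
    by_contra hcon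
    push Not at hcon
    have h2 := Subgroup.card_le_of_le (show W l ≤ Z l from hcon)
    rw [hb.card] at h2
    have h3 := hb.one
    have h4 : 0 < Nat.card (Z l) := Nat.card_pos
    nlinarith
  obtain ⟨w₀, hw₀, hw₀Z, h0⟩ := HU.exists_fix_coset (Z := Z l) (W := W l) hWc
    (fun x hx => by rw [← pow_two]; exact elem_sq hb.el x hx) hex m' t htW' hm
  -- `t` acts trivially on `B / C_B(W l)`
  have key : ∀ b ∈ bau (S : Subgroup G), ∀ u ∈ W l, (t * b * t⁻¹) * u * (t * b * t⁻¹)⁻¹ = b * u * b⁻¹ := by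
    intro b hbB u hu
    set b' := t * b * t⁻¹ with hb'
    have hb'B : b' ∈ bau (S : Subgroup G) := hnB b hbB
    set z := t * w₀ * t⁻¹ * w₀⁻¹ with hz
    have e1 : t * w₀ * t⁻¹ = z * w₀ := by rw [hz]; group
    have h3 : b * w₀ * b⁻¹ * w₀⁻¹ ∈ Z l := hb.com b hbB w₀ hw₀
    have h4 : b' * (t * w₀ * t⁻¹) * b'⁻¹ * (t * w₀ * t⁻¹)⁻¹ = b * w₀ * b⁻¹ * w₀⁻¹ := by
      calc b' * (t * w₀ * t⁻¹) * b'⁻¹ * (t * w₀ * t⁻¹)⁻¹ = t * (b * w₀ * b⁻¹ * w₀⁻¹) * t⁻¹ := by rw [hb']; group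
        _ = _ := htz' _ h3
    have h5 : b' * w₀ * b'⁻¹ * w₀⁻¹ = b * w₀ * b⁻¹ * w₀⁻¹ := by
      rw [← h4, e1]
      have h6 : b' * z = z * b' := hb.cZ b' hb'B z h0
      have h7 := hb.com b' hb'B w₀ hw₀
      have h8 : z * (b' * w₀ * b'⁻¹ * w₀⁻¹) = (b' * w₀ * b'⁻¹ * w₀⁻¹) * z :=
        hb.comm (hb.ZV h0) (hb.ZV h7)
      calc b' * w₀ * b'⁻¹ * w₀⁻¹ = (b' * w₀ * b'⁻¹ * w₀⁻¹) * z * z⁻¹ := by group
        _ = z * (b' * w₀ * b'⁻¹ * w₀⁻¹) * z⁻¹ := by rw [h8]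
        _ = (z * b') * w₀ * b'⁻¹ * w₀⁻¹ * z⁻¹ := by group
        _ = (b' * z) * w₀ * b'⁻¹ * w₀⁻¹ * z⁻¹ := by rw [h6]
        _ = b' * (z * w₀) * b'⁻¹ * (z * w₀)⁻¹ := by group
    have h6 : b' * w₀ * b'⁻¹ = b * w₀ * b⁻¹ := mul_right_cancel h5
    have h7 : (b⁻¹ * b') * w₀ = w₀ * (b⁻¹ * b') := by
      calc (b⁻¹ * b') * w₀ = b⁻¹ * (b' * w₀ * b'⁻¹) * b' := by group
        _ = b⁻¹ * (b * w₀ * b⁻¹) * b' := by rw [h6]
        _ = w₀ * (b⁻¹ * b') := by group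
    have h8 := hb.free (b⁻¹ * b') (mul_mem (inv_mem hbB) hb'B) w₀ hw₀ hw₀Z h7 u hu
    calc b' * u * b'⁻¹ = b * ((b⁻¹ * b') * u) * b'⁻¹ := by group
      _ = b * (u * (b⁻¹ * b')) * b'⁻¹ := by rw [h8]
      _ = b * u * b⁻¹ := by group
  set v := t * w * t⁻¹ with hv
  have hvW : v ∈ W l := htW' w hw
  have h1 : ∀ b ∈ bau (S : Subgroup G), b * v * b⁻¹ * v⁻¹ = b * w * b⁻¹ * w⁻¹ := by
    intro b hbB
    set b₁ := t⁻¹ * b * t with hb₁
    have hb₁B : b₁ ∈ bau (S : Subgroup G) := hnB' b hbB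
    have e1 : t * b₁ * t⁻¹ = b := by rw [hb₁]; group
    have h3 := hb.com b₁ hb₁B w hw
    have h4 := key b₁ hb₁B w hw
    rw [e1] at h4
    calc b * v * b⁻¹ * v⁻¹ = t * (b₁ * w * b₁⁻¹ * w⁻¹) * t⁻¹ := by rw [hv, hb₁]; group
      _ = b₁ * w * b₁⁻¹ * w⁻¹ := htz' _ h3
      _ = b * w * b⁻¹ * w⁻¹ := by rw [h4]
  have h3 : w⁻¹ * v ∈ Z l := by
    refine hb.toMd.mem_Z_iff.2 ⟨mul_mem (inv_mem hw) hvW, fun b hbB => ?_⟩
    have h4 := h1 b hbB
    have h5 : b * v * b⁻¹ = (b * w * b⁻¹) * w⁻¹ * v := by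
      calc b * v * b⁻¹ = (b * v * b⁻¹ * v⁻¹) * v := by group
        _ = (b * w * b⁻¹) * w⁻¹ * v := by rw [h4]
    have h6 : b * (w⁻¹ * v) * b⁻¹ = w⁻¹ * v := by
      calc b * (w⁻¹ * v) * b⁻¹ = (b * w * b⁻¹)⁻¹ * (b * v * b⁻¹) := by group
        _ = w⁻¹ * v := by rw [h5]; group
    exact mul_inv_eq_iff_eq_mul.1 h6
  rwa [hWc _ (inv_mem hw) _ hvW] at h3

/-- `R ≤ N_G(V)` permuting the `W k`: `R` normalises every `W k` and centralises `W l / Z l`, `l ≠ i`. -/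
theorem hW {i : ι} {T R : Subgroup G} (hT : Syl T R) (hB : bau (S : Subgroup G) ≤ T) (hP : IsMinPar T R)
    (hRY : R ≤ YY Z i) (hR : ∀ r ∈ R, ∀ k, ∃ k', cj r (W k) = W k') :
    (∀ k, R ≤ normalizer (W k : Set G)) ∧ ∀ l, l ≠ i → ∀ r ∈ R, ∀ w ∈ W l, r * w * r⁻¹ * w⁻¹ ∈ Z l := by
  have hWinj : ∀ {k k' : ι}, W k = W k' → k = k' := by
    intro k k' e
    by_contra hne
    obtain ⟨z, hz, hz1⟩ := h.fr.exists_ne k
    have h1 : z ∈ W k ⊓ C k := mem_inf.2 ⟨(h.fr.blk k).ZV hz, h.fr.WjC k k' hne (e ▸ (h.fr.blk k).ZV hz)⟩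
    rw [h.fr.dir k, mem_bot] at h1
    exact hz1 h1
  -- the `W l`, `l ≠ i`, are fixed
  have h1 : ∀ l, l ≠ i → ∀ r ∈ R, cj r (W l) = W l := by
    intro l hl r hr
    obtain ⟨k, hk⟩ := hR r hr l
    by_cases hkl : k = l
    · rw [hk, hkl]
    exfalso
    obtain ⟨z, hz, hz1⟩ := h.fr.exists_ne l
    have h2 : r * z * r⁻¹ = z := by rw [h.YZ hl (hRY hr) hz]; group
    have h3 : z ∈ W k := by
      rw [← hk, ← h2]
      exact ⟨z, (h.fr.blk l).ZV hz, rfl⟩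
    have h4 : z ∈ W l ⊓ C l := mem_inf.2 ⟨(h.fr.blk l).ZV hz, h.fr.WjC l k (Ne.symm hkl) h3⟩
    rw [h.fr.dir l, mem_bot] at h4
    exact hz1 h4
  have h2 : ∀ k, ∀ r ∈ R, cj r (W k) = W k := by
    intro k r hr
    by_cases hk : k = i
    · subst hk
      obtain ⟨k', hk'⟩ := hR r hr k
      by_cases hkk : k' = k
      · rw [hk', hkk]
      exfalso
      have h3 := h1 k' hkk r hr
      have h4 := congrArg (cj r⁻¹) (hk'.trans h3.symm)
      rw [cj_inv_cj, cj_inv_cj] at h4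
      exact hkk (hWinj h4).symm
    · exact h1 k hk r hr
  refine ⟨fun k r hr => mem_normalizer_iff_cj.2 (h2 k r hr), fun l hl => ?_⟩
  have hRz : ∀ r ∈ R, ∀ z ∈ Z l, r * z * r⁻¹ = z := fun r hr z hz => by
    rw [h.YZ hl (hRY hr) hz]; group
  have hWl : ∀ r ∈ R, ∀ w ∈ W l, r * w * r⁻¹ ∈ W l := fun r hr w hw => h2 l r hr ▸ ⟨w, hw, rfl⟩
  let K : Subgroup G :=
    { carrier := {r | r ∈ R ∧ ∀ w ∈ W l, r * w * r⁻¹ * w⁻¹ ∈ Z l}
      one_mem' := ⟨one_mem _, fun w _ => by simp [one_mem]⟩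
      mul_mem' := by
        rintro a b ⟨ha, ha'⟩ ⟨hb, hb'⟩
        refine ⟨R.mul_mem ha hb, fun w hw => ?_⟩
        have e : a * b * w * (a * b)⁻¹ * w⁻¹ = a * (b * w * b⁻¹) * a⁻¹ * (b * w * b⁻¹)⁻¹ * (b * w * b⁻¹ * w⁻¹) := by
          group
        rw [e]
        exact mul_mem (ha' _ (hWl b hb w hw)) (hb' w hw)
      inv_mem' := by
        rintro a ⟨ha, ha'⟩
        refine ⟨R.inv_mem ha, fun w hw => ?_⟩
        have h1 := hWl a⁻¹ (inv_mem ha) w hw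
        rw [inv_inv] at h1
        have h2 := inv_mem (ha' _ h1)
        have e : (a * (a⁻¹ * w * a) * a⁻¹ * (a⁻¹ * w * a)⁻¹)⁻¹ = a⁻¹ * w * a⁻¹⁻¹ * w⁻¹ := by group
        rwa [e] at h2 }
  have hTK : ∀ t ∈ T, ∀ w ∈ W l, t * w * t⁻¹ * w⁻¹ ∈ Z l := by
    intro t ht w hw
    refine h.cent_y ?_ (Dich.two_le S hT.2.1 hB ht) (h2 l t (hT.1 ht)) (fun z hz => h.YZ hl (hRY (hT.1 ht)) hz) hw
    obtain ⟨k, hk⟩ := hT.2.1 ⟨t, ht⟩
    exact ⟨k, by have := congrArg Subtype.val hk; simpa using this⟩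
  have hRK : R ≤ K := by
    refine (HU.gen_cj hP hT).trans (iSup_le fun r => ?_)
    rintro _ ⟨t, ht, rfl⟩
    change (r : G) * t * (r : G)⁻¹ ∈ K
    refine ⟨mul_mem (mul_mem r.2 (hT.1 ht)) (inv_mem r.2), fun w hw => ?_⟩
    have h3 := hWl (r : G)⁻¹ (inv_mem r.2) w hw
    rw [inv_inv] at h3
    have h4 := hTK t ht _ h3
    have h5 := hRz r r.2 _ h4
    have e : (r : G) * (t * ((r : G)⁻¹ * w * r) * t⁻¹ * ((r : G)⁻¹ * w * r)⁻¹) * (r : G)⁻¹ =
        (r : G) * t * (r : G)⁻¹ * w * ((r : G) * t * (r : G)⁻¹)⁻¹ * w⁻¹ := by group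
    rw [e] at h5
    rw [h5]
    exact h4
  exact fun r hr => (hRK hr).2

end Bfr

end Cfsg.Agent.Omega.OM.Var
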