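import Cfsg.Agent.Omega.NO3S.V4.Avg

/-!
# Abstract lemma (5') of 739 #26148: the cocycle of a coset fixed by a Sylow group

`coc_fix` : `P` acts on the elementary abelian `W`, centralises `R ≤ W`, moves `w ∈ W` only inside `V ⊔ R`;
a subgroup `T` of odd index in `P` fixes `w` modulo `R`; a subgroup `H ≤ P` fixes `w` modulo `R` and has no fixed
points on `(V ⊔ R) / R`. Then `P` fixes `w` modulo `R`.
-/

set_option autoImplicit false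

namespace Cfsg.Agent.Omega.OM.Var.Coc

open Subgroup

universe u

theorem coc_fix {G : Type u} [Group G] [Finite G] {W R V P T H : Subgroup G} {w : G} (sq : ∀ x ∈ W, x * x = 1)
    (hRW : R ≤ W) (hVW : V ≤ W) (hPW : P ≤ normalizer (W : Set G)) (hPR : ∀ g ∈ P, ∀ r ∈ R, g * r = r * g)
    (hw : w ∈ W) (hPw : ∀ g ∈ P, g * w * g⁻¹ * w⁻¹ ∈ V ⊔ R) (hT : ∀ t ∈ T, t * w * t⁻¹ * w⁻¹ ∈ R)
    (odd : ¬ 2 ∣ T.relIndex P) (hHP : H ≤ P) (hHw : ∀ h ∈ H, h * w * h⁻¹ * w⁻¹ ∈ R)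
    (hfix : ∀ v ∈ V ⊔ R, (∀ h ∈ H, h * v * h⁻¹ * v⁻¹ ∈ R) → v ∈ R) :
    ∀ g ∈ P, g * w * g⁻¹ * w⁻¹ ∈ R := by
  have hcm : ∀ a ∈ W, ∀ b ∈ W, a * b = b * a := fun a ha b hb => KL.PlugG.comm_of_sq sq ha hb
  obtain ⟨f, hf, hfw, hfP⟩ := NO3S.V4.exists_fix_grp (N := V ⊔ R) (Z := R) (U := W) (H := P) (S := T) (p := w) sq
    le_sup_right (sup_le hVW hRW) hPW hPR hw hPw hT odd
  have hcj : ∀ g ∈ P, ∀ x ∈ W, g * x * g⁻¹ ∈ W := fun g hg x hx => (mem_normalizer_iff.1 (hPW hg) x).1 hx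
  -- `f = v w` with `v ∈ V ⊔ R`
  have hv : f * w⁻¹ ∈ R := by
    refine hfix _ hfw fun h hh => ?_
    have h1 := hfP h (hHP hh)
    have h2 := hHw h hh
    have e : h * (f * w⁻¹) * h⁻¹ * (f * w⁻¹)⁻¹ = (h * f * h⁻¹ * f⁻¹) * (h * w * h⁻¹ * w⁻¹)⁻¹ := by
      have a1 := hcj h (hHP hh) f hf
      have a2 := hcj h (hHP hh) w hw
      have e1 : h * (f * w⁻¹) * h⁻¹ * (f * w⁻¹)⁻¹ = (h * f * h⁻¹) * ((h * w * h⁻¹)⁻¹ * w) * f⁻¹ := by group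
      have e2 : (h * f * h⁻¹ * f⁻¹) * (h * w * h⁻¹ * w⁻¹)⁻¹ = (h * f * h⁻¹) * (f⁻¹ * (w * (h * w * h⁻¹)⁻¹)) := by group
      rw [e1, e2, mul_assoc, hcm _ (mul_mem (inv_mem a2) hw) _ (inv_mem hf), hcm _ hw _ (inv_mem a2)]
    rw [e]
    exact mul_mem h1 (inv_mem h2)
  intro g hg
  have h1 := hfP g hg
  have e : g * w * g⁻¹ * w⁻¹ = (g * f * g⁻¹ * f⁻¹) := by
    have a0 : w = (f * w⁻¹)⁻¹ * f := by group
    have a1 : g * w * g⁻¹ = (f * w⁻¹)⁻¹ * (g * f * g⁻¹) := by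
      have b1 := hPR g hg _ (inv_mem hv)
      calc g * w * g⁻¹ = g * ((f * w⁻¹)⁻¹ * f) * g⁻¹ := by rw [← a0]
        _ = (g * (f * w⁻¹)⁻¹) * f * g⁻¹ := by group
        _ = ((f * w⁻¹)⁻¹ * g) * f * g⁻¹ := by rw [b1]
        _ = (f * w⁻¹)⁻¹ * (g * f * g⁻¹) := by group
    rw [a1]
    have b2 := hcm _ (inv_mem (hRW hv)) _ (hcj g hg f hf)
    have b3 := hcm _ hw _ (inv_mem hf)
    have b4 : (f * w⁻¹)⁻¹ * w⁻¹ = f⁻¹ := by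
      calc (f * w⁻¹)⁻¹ * w⁻¹ = w * f⁻¹ * w⁻¹ := by group
        _ = f⁻¹ := by rw [b3]; group
    rw [b2, mul_assoc, b4]
  rw [e]
  exact h1

end Cfsg.Agent.Omega.OM.Var.Coc
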