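import Cfsg.Agent.Omega.OM.Var.StarB

/-!
# At least three blocks over `B = bau S` are impossible, any fields (helper739 #26148)

STAR (helper520) over the lines + THEOREM KL*(q) (helper181 `GQ`) + hU (helper51).

* `TIn.gq` : the output of STAR is an input of KL*(q);
* **`TIn.false_of`**.
-/

set_option autoImplicit false
set_option linter.unusedSectionVars false

namespace Cfsg.Agent.Omega.OM.Var

open Subgroup Cfsg Cfsg.Agent.ZN.ChoiceBase Cfsg.Agent.ZN.ChoiceSit
open Cfsg.Agent.PLocal.ElemAbSup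
open Cfsg.Agent.ZN (jj zj bau zc zl o2)
open Cfsg.Agent.MinSimple.MinParabolic (IsMinPar)
open Cfsg.Agent.Omega.SQ1.Bau (mem_sup_comm card_sup_comm elem_comm elem_sq)
open Cfsg.Agent.Omega.OM.Uni (Md FB)
open Cfsg.Agent.Omega.OM.UniPlus (NB)
open Cfsg.Agent.Omega.NOThreeL.RWide (XS XS_le XS_le_of conj_mem_XS GQ)
open Cfsg.Agent.Omega.NOThreeL.Sigma (FlIn UR UR_le UR_le_of le_UR)
open Cfsg.Agent.Omega.EK3.StarE (EE_le EE_mono le_EE norm_EE cj_le_EE Out)

universe u

variable {G : Type u} [Group G]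

namespace TIn

variable {ι : Type*} {S : Sylow 2 G} {Q V : Subgroup G} {L W Z C A : ι → Subgroup G} {q : ι → ℕ} {m : ℕ}
  (h : TIn S Q V L W Z C A q m) [Finite G] [Finite ι]
include h

theorem W_inf (i j : ι) : W i ⊓ centralizer (TT S Z j : Set G) ≤ Z i := by
  rintro w ⟨hw, hwT⟩
  refine (h.bf.fr.blk i).toMd.mem_Z_iff.2 ⟨hw, fun b hb => ?_⟩
  exact mem_centralizer_iff.1 hwT b (h.B_le_T j hb)

theorem O_le_B : o2 (DD S) ≤ bau (S : Subgroup G) := by
  have _ := h
  exact o2_le_syl (Dich.syl S)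

/-- `C_F(⟨X j^{Y j}⟩) ≤ C(N j)` -/
theorem cent_NJ {F : Subgroup G} {j : ι} (hF : F ≤ DD S) (hX : F ≤ centralizer (XS (X0 S Z j) (YY Z j) : Set G)) :
    F ≤ centralizer (NJ S Z j : Set G) := by
  rw [← h.UR_eq j, ← Subgroup.le_centralizer_iff]
  refine UR_le fun r hr z hz => ?_
  obtain ⟨x, hx, c, hc, rfl⟩ := mem_sup_comm (A := X0 S Z j) (B := ⨆ l : {l : ι // l ≠ j}, Z l) (fun a ha b hb =>
    h.bf.fr.Vc (h.bf.fr.ZV j ha.1) (h.bf.fr.ZJV ((iSup_le fun l => h.bf.fr.Z_le l : (⨆ l : {l : ι // l ≠ j}, Z l) ≤ _) hb))) hz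
  have e1 : r * c * r⁻¹ = c := by
    rw [← mem_centralizer_iff.1 hr c hc]; group
  have e2 : r * (x * c) * r⁻¹ = (r * x * r⁻¹) * c := by
    calc r * (x * c) * r⁻¹ = (r * x * r⁻¹) * (r * c * r⁻¹) := by group
      _ = _ := by rw [e1]
  rw [e2]
  refine mul_mem (Subgroup.le_centralizer_iff.1 hX (conj_mem_XS hr hx)) ?_
  refine Subgroup.le_centralizer_iff.1 hF ?_
  exact (iSup_le fun l => h.bf.fr.Z_le l : (⨆ l : {l : ι // l ≠ j}, Z l) ≤ _) hc

/-- **the output of STAR is an input of KL*(q)** -/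
theorem gq (hFF : FFThm.Stmt.{u}) (ml : ML.Final.MLK.{u, u}) (KY : ∀ j, IsKGroup (YY Z j)) {i j : ι}
    {F₁ F : Subgroup G} {x : G}
    (o : Out (o2 (DD S)) (zj (S : Subgroup G)) (YY Z) (NJ S Z) (LI Z W) i j F₁ F x) :
    GQ (YY Z j) (TT S Z j) F (EK3.StarE.EE (zj (S : Subgroup G)) (YY Z i ⊔ YY Z j)) (X0 S Z j) (W i) := by
  have hs := h.star hFF ml KY
  have hij := o.ne
  have hFO : F ≤ o2 (DD S) := o.leO
  have hFD : F ≤ DD S := hFO.trans (o2_le _)
  have hWE : W i ≤ EK3.StarE.EE (zj (S : Subgroup G)) (YY Z i ⊔ YY Z j) :=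
    (h.W_le_NJ i).trans (EE_mono le_sup_left)
  have hNE : NJ S Z j ≤ EK3.StarE.EE (zj (S : Subgroup G)) (YY Z i ⊔ YY Z j) := EE_mono le_sup_right
  have hnW : TT S Z j ≤ normalizer (W i : Set G) := fun t ht => mem_normalizer_iff_cj.2
    (h.fixWB (Dich.two_le S (h.T_two j) (h.B_le_T j) ht) ht.2 i)
  have hre := o.relIndex_eq hs
  refine
    { CM := o.YE hs
      sqM := fun m hm => elem_sq (o.elE hs) m hm
      TC := inf_le_right
      two := h.T_two j
      syl := syl_not_dvd (h.sylT j)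
      ZM := (inf_le_left.trans (h.bf.fr.Z_le j)).trans (le_EE _ _)
      YM := hWE
      TZ := h.X0_cent j
      NZ := ?_
      NY := fun g hg => mem_normalizer_iff_cj.2 (h.fixWB (h.normT_le j hg.2) hg.1 i)
      cY := ?_
      par := fun P hP hPY => h.par_odd hFF hij hP hPY
      AT := hFO.trans (h.O_le_B.trans (h.B_le_T j))
      sqA := fun a ha => elem_sq o.eab a ha
      AZ := hFO.trans (h.O_le (h.stabX_le j) (le_inf (h.bf.cent_le j) (h.DD_cent j)))
      AY := ?_
      mv := fun hc => o.mov (hc.trans (centralizer_le (by exact_mod_cast hNE)))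
      ker := ?_
      le := (hre.2.1.trans hre.1.symm).le
      no := fun B hB => o.no_sub hs hNE le_rfl hB
      K := KY j }
  · rintro g ⟨hgY, hgN⟩
    rw [mem_normalizer_iff_cj, X0, cj_inf, cj_centralizer, cj_eq_of_mem_normalizer hgN,
      h.fixZ (Dich.norm_zj _ (h.normT_le j hgN)) hgY j]
  · rw [Subgroup.le_centralizer_iff]
    refine (h.W_inf i j).trans ?_
    rw [Subgroup.le_centralizer_iff]
    intro g hg
    exact mem_centralizer_iff.2 fun z hz => (h.bf.YZ hij hg hz).symm
  · have hlow : F ≤ o2 (YY Z j ⊓ centralizer (W i : Set G)) := by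
      refine o.low hs (V := W i) (Zp := Z j) (isPGroup_o2 _) (h.W_le_NJ i) ?_ ?_ (h.Z_le_NJ j j) (h.stab j).le
      · rintro g ⟨hgY, hgW⟩
        have hgWc : cj g (W i) = W i := cj_eq_of_mem_normalizer hgW
        have key : ∀ {g : G}, g ∈ YY Z i → cj g (W i) = W i →
            cj g (YY Z j ⊓ centralizer (W i : Set G)) ≤ YY Z j ⊓ centralizer (W i : Set G) := by
          intro g hgY hgW
          rintro _ ⟨c, ⟨hc1, hc2⟩, rfl⟩
          have hW' : (MulAut.conj g).toMonoidHom c ∈ centralizer (W i : Set G) := by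
            have h1 : cj g (centralizer (W i : Set G)) = centralizer (W i : Set G) := by rw [cj_centralizer, hgW]
            rw [← h1]
            exact ⟨c, hc2, rfl⟩
          refine ⟨?_, hW'⟩
          change g * c * g⁻¹ ∈ YY Z j
          rw [YY, ← SetLike.mem_coe, SetLike.mem_coe, mem_centralizer_iff]
          have h2 : (⨆ l : {l : ι // l ≠ j}, Z l) ≤ centralizer ({g * c * g⁻¹} : Set G) := by
            refine iSup_le fun l z hz => mem_centralizer_singleton_iff.2 ?_
            by_cases hl : (l : ι) = i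
            · have h3 : z ∈ W i := (h.bf.fr.blk i).ZV (hl ▸ hz)
              exact mem_centralizer_iff.1 hW' z h3
            · have c1 : Commute g z := h.bf.YZ hl hgY hz
              have c2 : Commute c z := (mem_centralizer_iff.1 hc1 z
                ((le_iSup (fun l : {l : ι // l ≠ j} => Z l) l) hz)).symm
              exact ((c1.mul_left c2).mul_left c1.inv_left).eq.symm
          intro z hz
          exact (mem_centralizer_singleton_iff.1 (h2 hz))
        rw [mem_normalizer_iff_cj]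
        refine le_antisymm (key hgY hgWc) ?_
        have h4 := cj_mono g (key (inv_mem hgY) (by
          have := congrArg (cj g⁻¹) hgWc
          rw [cj_inv_cj] at this
          exact this.symm))
        rwa [cj_cj_inv] at h4
      · intro g hg
        have h4 : g ∈ centralizer (Z j : Set G) := mem_centralizer_iff.2 fun z hz => (h.bf.YZ hij.symm hg.1 hz).symm
        exact centralizer_le_normalizer _ h4
    refine hlow.trans (le_o2 (isPGroup_o2 _) ((o2_le _).trans le_sup_left) (sup_le (le_normalizer_o2 _) ?_))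
    refine le_trans ?_ (Cfsg.Agent.Omega.normalizer_le_normalizer_o2' _)
    intro t ht
    rw [mem_normalizer_iff_cj, cj_inf, cj_centralizer, cj_eq_of_mem_normalizer (le_normalizer ht.2),
      cj_eq_of_mem_normalizer (hnW ht)]
  · refine le_trans ?_ (o.le_cent hs)
    exact le_inf inf_le_left (h.cent_NJ (inf_le_left.trans hFD) inf_le_right)

/-- **At least three blocks over `B = bau S` are impossible.** -/
theorem false_of [Nonempty ι] (hFF : FFThm.Stmt.{u}) (ml : ML.Final.MLK.{u, u}) (hE : ML.Ex.Two.Ext.{u, u})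
    (KY : ∀ j, IsKGroup (YY Z j)) : False := by
  have hO : o2 (DD S) ≠ ⊥ := by
    obtain ⟨i⟩ := ‹Nonempty ι›
    obtain ⟨z, hz, hz1⟩ := h.bf.fr.exists_ne i
    intro hb
    have h1 : zj (S : Subgroup G) ≤ o2 (DD S) := by
      obtain ⟨k, hk⟩ := h.bf.two i
      exact (le_EE _ _).trans (h.eab_EE (p := fun l => l ≠ i) ⟨k, hk⟩).2
    have h2 := h1 (h.bf.fr.Z_le i hz)
    rw [hb, mem_bot] at h2
    exact hz1 h2
  obtain ⟨i, j, F₁, F, x, o⟩ := (h.star hFF ml KY).star hO
  exact (h.gq hFF ml KY o).false_of ml hE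

end TIn

end Cfsg.Agent.Omega.OM.Var
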