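import Cfsg.Agent.Omega.OM.Var.HU
import Cfsg.Agent.Omega.EK3.StarE
import Cfsg.Agent.Omega.NOThreeL.Sigma.Flag
import Cfsg.Agent.Omega.NOThreeL.RWide.ExnK
import Cfsg.Agent.Omega.NOne.LemmaT

/-!
# At least three blocks over `B = bau S`, any fields: the frame of STAR (#26148; helper739)

`Bfr S Q V L W Z C A q m` : helper51's frame over `B = bau S` (level 0, blocks over different fields).
`Y j = YY Z j = C_G(Z l : l ≠ j)`, `T j = TT S Z j = S ∩ Y j`, `X j = X0 S Z j = C_{Z j}(T j)`, `D = DD S = C_G(Z_J)`,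
`O = O₂(D)`, `N j = NJ S Z j = ⟨Z_J^{Y j}⟩`.

* `TIn` : at least three blocks, `N_G(V)` permutes the `W k`, `C_{Y j}(X j) ≤ N_G(Z_J)`, `⟨Y j : j⟩` nonlocal;
* `TIn.of_cent` : `TIn` if `C_G(Z) ≤ N_G(Z_J)`;  `TIn.hD_of_cent` : the third condition if `T j` centralises `Z j`;
* `TIn.sylT` : `T j` is a Sylow 2-subgroup of `Y j`;
* `TIn.par` : `P ∈ P(T j, Y j)` centralises `X j` or normalises all `W k` and centralises `W l / Z l`, `l ≠ j`;
* `TIn.gen` : `Y j = ⟨D, Y j ∩ N_G(W j)⟩`;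
* `TIn.no` : (NO) for `O` on `N j`;
* `TIn.star` : helper520's frame of STAR.
-/

set_option autoImplicit false
set_option linter.unusedSectionVars false

namespace Cfsg.Agent.Omega.OM.Var

open Subgroup Cfsg Cfsg.Agent.ZN.ChoiceBase Cfsg.Agent.ZN.ChoiceSit
open Cfsg.Agent.PLocal.ElemAbSup
open Cfsg.Agent.ZN (jj zj bau zc zl o2)
open Cfsg.Agent.MinSimple.MinParabolic (IsMinPar)
open Cfsg.Agent.Omega.MinPar (IsParS NonLoc)
open Cfsg.Agent.Omega.SQ1.Bau (mem_sup_comm card_sup_comm elem_comm elem_sq)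
open Cfsg.Agent.Omega.OM.Uni (Md FB)
open Cfsg.Agent.Omega.OM.UniPlus (NB)
open Cfsg.Agent.Omega.OM.BlkGen (FBlk)
open Cfsg.Agent.Omega.NOThreeL.RWide (XS XS_le XS_le_of XS_mono le_XS conj_mem_XS le_normalizer_XS mem_normalizer_XS)
open Cfsg.Agent.Omega.NOThreeL.Sigma (FlIn UR UR_le UR_le_of le_UR)
open Cfsg.Agent.Omega.EK3.StarE (EE EE_le EE_mono le_EE norm_EE cj_le_EE)
open Cfsg.Agent.Omega.EK3.Rank (NoOn)

universe u

variable {G : Type u} [Group G]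

/-- The input. -/
structure TIn {ι : Type*} (S : Sylow 2 G) (Q V : Subgroup G) (L W Z C A : ι → Subgroup G) (q : ι → ℕ) (m : ℕ) :
    Prop where
  bf : Bfr S Q V L W Z C A q m
  three : ∀ i j : ι, ∃ k, k ≠ i ∧ k ≠ j
  nV : ∀ g ∈ normalizer (V : Set G), ∀ k, ∃ k', cj g (W k) = W k'
  hD : ∀ j, YY Z j ⊓ centralizer ((Z j ⊓ centralizer (((S : Subgroup G) ⊓ YY Z j : Subgroup G) : Set G) : Subgroup G) :
    Set G) ≤ normalizer (zj (S : Subgroup G) : Set G)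
  nl : ∀ U : Subgroup G, IsPGroup 2 U → EE Z ≤ normalizer (U : Set G) → U = ⊥

/-- `T j = S ∩ Y j` -/
abbrev TT {ι : Type*} (S : Sylow 2 G) (Z : ι → Subgroup G) (j : ι) : Subgroup G := (S : Subgroup G) ⊓ YY Z j

/-- `X j = C_{Z j}(T j)` -/
abbrev X0 {ι : Type*} (S : Sylow 2 G) (Z : ι → Subgroup G) (j : ι) : Subgroup G :=
  Z j ⊓ centralizer (TT S Z j : Set G)

/-- `D = C_G(Z_J)` -/
abbrev DD (S : Sylow 2 G) : Subgroup G := centralizer (zj (S : Subgroup G) : Set G)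

namespace TIn

variable {ι : Type*} {S : Sylow 2 G} {Q V : Subgroup G} {L W Z C A : ι → Subgroup G} {q : ι → ℕ} {m : ℕ}
  (h : TIn S Q V L W Z C A q m) [Finite G] [Finite ι]
include h

theorem T_two (j : ι) : IsPGroup 2 (TT S Z j) := S.isPGroup'.to_le inf_le_left

theorem B_le_T (j : ι) : bau (S : Subgroup G) ≤ TT S Z j :=
  le_inf (bau_le _) ((Dich.syl S).1.trans (h.bf.cent_le j))

/-- `g ∈ N(B) ∩ Y j` normalises every `Z k` -/
theorem fixZ {j : ι} {g : G} (hg : g ∈ normalizer (zj (S : Subgroup G) : Set G)) (hgY : g ∈ YY Z j) (k : ι) :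
    cj g (Z k) = Z k := by
  by_cases hk : k = j
  · subst hk
    exact h.bf.norm_Zi hg hgY
  · have h2 : g ∈ centralizer (Z k : Set G) := mem_centralizer_iff.2 fun z hz => (h.bf.YZ hk hgY hz).symm
    exact mem_normalizer_iff_cj.1 (centralizer_le_normalizer _ h2)

/-- `g ∈ N(V)` which normalises every `Z k` normalises every `W k` -/
theorem fixW {g : G} (hg : g ∈ normalizer (V : Set G)) {k : ι} (hZ : cj g (Z k) = Z k) : cj g (W k) = W k := by
  obtain ⟨k', hk'⟩ := h.nV g hg k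
  by_cases e : k' = k
  · rw [hk', e]
  exfalso
  obtain ⟨z, hz, hz1⟩ := h.bf.fr.exists_ne k
  have h1 : z ∈ W k' := by
    rw [← hk']
    exact cj_mono g (h.bf.fr.blk k).ZV (hZ.symm ▸ hz)
  exact hz1 (h.bf.fr.Z_inf_C hz (h.bf.fr.WjC k k' (Ne.symm e) h1))

theorem norm_V {g : G} (hg : g ∈ normalizer (bau (S : Subgroup G) : Set G)) : g ∈ normalizer (V : Set G) :=
  mem_normalizer_iff_cj.2 (h.bf.fr.norm_of hg (h.bf.com g hg)).1

theorem fixWB {j : ι} {g : G} (hg : g ∈ normalizer (bau (S : Subgroup G) : Set G)) (hgY : g ∈ YY Z j) (k : ι) :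
    cj g (W k) = W k := h.fixW (h.norm_V hg) (h.fixZ (Dich.norm_zj _ hg) hgY k)

/-- the kernel of `N_G(B)` on the blocks -/
def N0 (S : Sylow 2 G) (Z : ι → Subgroup G) : Subgroup G :=
  normalizer (bau (S : Subgroup G) : Set G) ⊓ ⨅ k, normalizer (Z k : Set G)

omit h in
theorem mem_N0 {g : G} : g ∈ N0 S Z ↔ g ∈ normalizer (bau (S : Subgroup G) : Set G) ∧ ∀ k, cj g (Z k) = Z k := by
  rw [N0, mem_inf, mem_iInf]
  exact and_congr_right fun _ => forall_congr' fun k => mem_normalizer_iff_cj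

/-- **`T j` is a Sylow 2-subgroup of `Y j`** -/
theorem sylT (j : ι) : Syl (TT S Z j) (YY Z j) := by
  have hS : Syl (S : Subgroup G) (normalizer (bau (S : Subgroup G) : Set G)) :=
    ⟨Dich.two_le S S.isPGroup' (bau_le _), S.isPGroup', fun R _ h2 h3 => S.3 h2 h3⟩
  have h1 : Syl ((S : Subgroup G) ⊓ N0 S Z) (N0 S Z) := by
    refine SQ1.FFOne.syl_inf hS inf_le_left fun g hg n hn => ?_
    rw [mem_N0] at hn ⊢
    refine ⟨mul_mem (mul_mem hg hn.1) (inv_mem hg), fun k => ?_⟩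
    obtain ⟨l, -, hl⟩ := h.bf.perm (Dich.norm_zj _ (Subgroup.inv_mem _ hg)) k
    rw [← cj_cj, ← cj_cj, hl, hn.2 l, ← hl, cj_cj_inv]
  have hle : YY Z j ⊓ normalizer (bau (S : Subgroup G) : Set G) ≤ N0 S Z := fun g hg =>
    mem_N0.2 ⟨hg.2, h.fixZ (Dich.norm_zj _ hg.2) hg.1⟩
  have h2 := SQ1.FFOne.syl_inf h1 hle fun g hg n hn => by
    rw [mem_N0] at hg
    refine ⟨?_, Subgroup.mul_mem _ (Subgroup.mul_mem _ hg.1 hn.2) (Subgroup.inv_mem _ hg.1)⟩
    have h3 : cj g (YY Z j) = YY Z j := h.bf.cj_YY (Dich.norm_zj _ hg.1) (hg.2 j)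
    rw [← h3]
    exact ⟨n, hn.1, rfl⟩
  refine ⟨inf_le_right, h.T_two j, fun R hR h3 hTR => ?_⟩
  have h4 : R ≤ normalizer (bau (S : Subgroup G) : Set G) := Dich.two_le S h3 ((h.B_le_T j).trans hTR)
  refine le_antisymm ?_ hTR
  have h5 : (S : Subgroup G) ⊓ N0 S Z ⊓ (YY Z j ⊓ normalizer (bau (S : Subgroup G) : Set G)) ≤ R :=
    le_trans (le_inf (inf_le_left.trans inf_le_left) (inf_le_right.trans inf_le_left)) hTR
  have h6 := h2.2.2 R (le_inf hR h4) h3 h5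
  rw [h6]
  exact le_inf (inf_le_left.trans inf_le_left) (inf_le_right.trans inf_le_left)

/-- a Sylow 2-subgroup of the overgroups of `T j` in `Y j` -/
theorem syl_of {j : ι} {R : Subgroup G} (h1 : TT S Z j ≤ R) (h2 : R ≤ YY Z j) : Syl (TT S Z j) R :=
  ⟨h1, h.T_two j, fun R' h3 h4 h5 => (h.sylT j).2.2 R' (h3.trans h2) h4 h5⟩

/-- `C_{Y j}(Z j) = D` -/
theorem stab (j : ι) : YY Z j ⊓ centralizer (Z j : Set G) = DD S := by
  apply le_antisymm
  · rw [DD, h.bf.fr.ZJ_eq, YY, ← Subgroup.le_centralizer_iff]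
    refine iSup_le fun k => ?_
    rw [Subgroup.le_centralizer_iff]
    by_cases hk : k = j
    · subst hk
      exact inf_le_right
    · exact inf_le_left.trans (centralizer_le (by
        exact_mod_cast (le_iSup (fun l : {l : ι // l ≠ j} => Z l) ⟨k, hk⟩ : Z k ≤ _)))
  · exact le_inf (h.bf.cent_le j) (centralizer_le (by exact_mod_cast h.bf.fr.Z_le j))

omit h in
/-- `z ∈ Z_J` centralised by `T j` is a product of `X j` and `Z l`, `l ≠ j` -/
theorem split (bf : Bfr S Q V L W Z C A q m) (j : ι) {z : G} (hz : z ∈ zj (S : Subgroup G)) (hT : ∀ t ∈ TT S Z j, t * z = z * t) :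
    ∃ w ∈ X0 S Z j, ∃ c ∈ ⨆ l : {l : ι // l ≠ j}, Z l, z = w * c := by
  obtain ⟨w, hw, c, hc, hcJ, e⟩ := bf.fr.split_ZJ j hz
  have hc' : c ∈ ⨆ l : {l : ι // l ≠ j}, Z l := by
    rw [← bf.fr.inf_C j]
    exact ⟨hcJ, hc⟩
  refine ⟨w, ⟨hw, mem_centralizer_iff.2 fun t ht => ?_⟩, c, hc', e⟩
  have c1 : Commute t c := (mem_centralizer_iff.1 ht.2 c hc').symm
  have c2 : Commute t z := hT t ht
  have e1 : w = z * c⁻¹ := by rw [e]; group
  rw [e1]
  exact (c2.mul_right c1.inv_right).eq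

theorem stabX_le (j : ι) : YY Z j ⊓ centralizer (X0 S Z j : Set G) ≤ normalizer (zj (S : Subgroup G) : Set G) :=
  h.hD j

omit h in
/-- `hD` and `nl` from `C_G(Z) ≤ N_G(Z_J)` -/
theorem of_cent [Nonempty ι] (hFF : FFThm.Stmt.{u}) (bf : Bfr S Q V L W Z C A q m)
    (three : ∀ i j : ι, ∃ k, k ≠ i ∧ k ≠ j)
    (nV : ∀ g ∈ normalizer (V : Set G), ∀ k, ∃ k', cj g (W k) = W k')
    (hC : centralizer (zc (S : Subgroup G) : Set G) ≤ normalizer (zj (S : Subgroup G) : Set G))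
    (hnl : NonLoc (sSup {P : Subgroup G | IsParS (S : Subgroup G) P}) (centralizer (zc (S : Subgroup G) : Set G))) :
    TIn S Q V L W Z C A q m := by
  refine ⟨bf, three, nV, fun j => le_trans ?_ hC, fun U hU hE => bf.nonLoc hFF hC hnl hU hE⟩
  rintro g ⟨hgY, hgX⟩
  rw [mem_centralizer_iff]
  intro z hz
  have hz' := mem_zc.1 hz
  obtain ⟨w, hw, c, hc, rfl⟩ := split bf j (zc_le_zj _ hz) fun t ht => hz'.2.2 t ht.1
  have c1 : Commute w g := mem_centralizer_iff.1 hgX w hw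
  have c2 : Commute c g := mem_centralizer_iff.1 hgY c hc
  exact (c1.mul_left c2).eq

omit h in
/-- `hD` if no field automorphism acts: `T j` centralises `Z j` -/
theorem hD_of_cent (bf : Bfr S Q V L W Z C A q m) {j : ι} (hT : TT S Z j ≤ centralizer (Z j : Set G)) :
    YY Z j ⊓ centralizer (X0 S Z j : Set G) ≤ normalizer (zj (S : Subgroup G) : Set G) := by
  refine le_trans ?_ (centralizer_le_normalizer _)
  rw [bf.fr.ZJ_eq, ← Subgroup.le_centralizer_iff]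
  refine iSup_le fun k => ?_
  rw [Subgroup.le_centralizer_iff]
  by_cases hk : k = j
  · subst hk
    refine inf_le_right.trans (centralizer_le ?_)
    exact_mod_cast (le_inf le_rfl (Subgroup.le_centralizer_iff.1 hT) : Z k ≤ X0 S Z k)
  · exact inf_le_left.trans (centralizer_le (by
      exact_mod_cast (le_iSup (fun l : {l : ι // l ≠ j} => Z l) ⟨k, hk⟩ : Z k ≤ _)))

/-! ### `O₂` and characteristic 2 -/

/-- `C_G(Z l : p l)` -/
def CP (Z : ι → Subgroup G) (p : ι → Prop) : Subgroup G := centralizer ((⨆ l : {l : ι // p l}, Z l : Subgroup G) : Set G)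

theorem DD_le_CP (p : ι → Prop) : DD S ≤ CP Z p :=
  centralizer_le (by exact_mod_cast (iSup_le fun l => h.bf.fr.Z_le l : (⨆ l : {l : ι // p l}, Z l) ≤ zj (S : Subgroup G)))

omit [Finite G] [Finite ι] h in
theorem YY_le_CP {p : ι → Prop} {i : ι} (hi : ¬ p i) : YY Z i ≤ CP Z p := by
  refine centralizer_le ?_
  exact_mod_cast (iSup_le fun l => le_iSup (fun l : {l : ι // l ≠ i} => Z l) ⟨l, fun e => hi (e ▸ l.2)⟩ :
    (⨆ l : {l : ι // p l}, Z l) ≤ ⨆ l : {l : ι // l ≠ i}, Z l)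

theorem char2_CP {p : ι → Prop} (hp : ∃ l, p l) : CP Z p ⊓ centralizer (o2 (CP Z p) : Set G) ≤ o2 (CP Z p) := by
  refine NOne.LemmaT.char2_centralizer h.bf.char2 ?_ ?_
  · refine h.bf.bau_two.to_le (iSup_le fun l => ?_)
    exact ((h.bf.fr.blk l).ZV).trans (W_le_B h.bf.fr l)
  · obtain ⟨l, hl⟩ := hp
    obtain ⟨z, hz, hz1⟩ := h.bf.fr.exists_ne l
    intro hb
    have h1 : z ∈ ⨆ l : {l : ι // p l}, Z l := (le_iSup (fun l : {l : ι // p l} => Z l) ⟨l, hl⟩) hz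
    rw [hb, mem_bot] at h1
    exact hz1 h1

theorem o2_CP_le (p : ι → Prop) : o2 (CP Z p) ≤ DD S := by
  rw [DD, h.bf.fr.ZJ_eq, ← Subgroup.le_centralizer_iff]
  refine iSup_le fun i => ?_
  rw [Subgroup.le_centralizer_iff]
  by_cases hi : p i
  · refine (o2_le _).trans (centralizer_le ?_)
    exact_mod_cast (le_iSup (fun l : {l : ι // p l} => Z l) ⟨i, hi⟩ : Z i ≤ _)
  · have h1 := (nb h.bf.fr i).block (UniPlus.wc_bau S) h.bf.bau_two
    exact (h1.le_centralizer (isPGroup_o2 _) (((h.bf.L_le i).trans (YY_le_CP hi)).trans (le_normalizer_o2 _))).trans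
      (centralizer_le (by exact_mod_cast (h.bf.fr.blk i).ZV))

theorem ZJ_le_DD : zj (S : Subgroup G) ≤ DD S := by
  intro z hz
  rw [DD, mem_centralizer_iff]
  exact fun y hy => h.bf.fr.Vc (h.bf.fr.ZJV hy) (h.bf.fr.ZJV hz)

theorem ZJ_le_o2 {p : ι → Prop} (hp : ∃ l, p l) : zj (S : Subgroup G) ≤ o2 (CP Z p) := by
  refine le_trans (le_inf ((h.ZJ_le_DD).trans (h.DD_le_CP p)) ?_) (h.char2_CP hp)
  exact Subgroup.le_centralizer_iff.1 (h.o2_CP_le p)

/-- `⟨Z_J^C⟩`, `C = C_G(Z l : p l)`, is elementary abelian and lies in `O₂(D)`. -/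
theorem eab_EE {p : ι → Prop} (hp : ∃ l, p l) : IsElementaryAbelian 2 (EK3.StarE.EE (zj (S : Subgroup G)) (CP Z p)) ∧
    EK3.StarE.EE (zj (S : Subgroup G)) (CP Z p) ≤ o2 (DD S) := by
  have h1 : EK3.StarE.EE (zj (S : Subgroup G)) (CP Z p) ≤ o2 (CP Z p) := EE_le fun y hy => by
    have := cj_mono y (h.ZJ_le_o2 hp)
    rwa [cj_eq_of_mem_normalizer (le_normalizer_o2 _ hy)] at this
  have h2 : EK3.StarE.EE (zj (S : Subgroup G)) (CP Z p) ≤ centralizer (o2 (CP Z p) : Set G) := EE_le fun y hy => by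
    rw [Subgroup.le_centralizer_iff, ← cj_centralizer, ← cj_eq_of_mem_normalizer (le_normalizer_o2 _ hy)]
    exact cj_mono y (h.o2_CP_le p)
  have h3 : EK3.StarE.EE (zj (S : Subgroup G)) (CP Z p) ≤
      centralizer (EK3.StarE.EE (zj (S : Subgroup G)) (CP Z p) : Set G) :=
    h2.trans (centralizer_le (by exact_mod_cast h1))
  refine ⟨NO3S.EThree.ExactA.eab_iff.2 ⟨h3, fun x hx => ?_⟩, h1.trans ?_⟩
  · have key : x ∈ EK3.StarE.EE (zj (S : Subgroup G)) (CP Z p) ∧ x ^ 2 = 1 := by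
      unfold EK3.StarE.EE at hx
      refine Subgroup.iSup_induction (fun y : CP Z p => cj (y : G) (zj (S : Subgroup G)))
        (C := fun x => x ∈ EK3.StarE.EE (zj (S : Subgroup G)) (CP Z p) ∧ x ^ 2 = 1) hx ?_ ?_ ?_
      · rintro y x hx
        refine ⟨cj_le_EE y.2 hx, ?_⟩
        rw [mem_cj] at hx
        have h4 := elem_sq h.bf.fr.el _ (h.bf.fr.ZJV hx)
        have e : ((y : G)⁻¹ * x * y) ^ 2 = (y : G)⁻¹ * x ^ 2 * y := by rw [pow_two, pow_two]; group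
        rw [e] at h4
        calc x ^ 2 = (y : G) * ((y : G)⁻¹ * x ^ 2 * y) * (y : G)⁻¹ := by group
          _ = 1 := by rw [h4]; group
      · exact ⟨one_mem _, one_pow _⟩
      · rintro a b ⟨ha, ha2⟩ ⟨hb, hb2⟩
        have hc : Commute a b := (mem_centralizer_iff.1 (h3 hb) a ha)
        exact ⟨mul_mem ha hb, by rw [hc.mul_pow, ha2, hb2, one_mul]⟩
    exact key.2
  · exact le_o2 (isPGroup_o2 _) (h.o2_CP_le p) ((h.DD_le_CP p).trans (le_normalizer_o2 _))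

/-- characteristic 2 for the overgroups of `T j` in `Y j` -/
theorem char2_of {j : ι} {R : Subgroup G} (h1 : TT S Z j ≤ R) (h2 : R ≤ YY Z j) :
    R ⊓ centralizer (o2 R : Set G) ≤ o2 R := by
  have h3 : o2 (YY Z j) ≤ o2 R :=
    le_o2 (isPGroup_o2 _) ((o2_le_syl (h.sylT j)).trans h1) (h2.trans (le_normalizer_o2 _))
  have h4 := h.char2_CP (p := fun l => l ≠ j) (h.bf.two j)
  exact (le_inf (inf_le_left.trans h2) (inf_le_right.trans (centralizer_le (by exact_mod_cast h3)))).trans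
    (h4.trans h3)

/-! ### minimal parabolics -/

theorem X0_le_zc (j : ι) : X0 S Z j ≤ zc (TT S Z j) := by
  rintro x ⟨hx, hxT⟩
  refine mem_zc.2 ⟨h.B_le_T j ((h.bf.fr.blk j).VB ((h.bf.fr.blk j).ZV hx)), ?_, fun y hy => ?_⟩
  · exact elem_sq h.bf.fr.el _ (h.bf.fr.ZV j hx)
  · exact mem_centralizer_iff.1 hxT y hy

theorem X0_cent (j : ι) : TT S Z j ≤ centralizer (X0 S Z j : Set G) := Subgroup.le_centralizer_iff.1 inf_le_right

theorem DD_cent (j : ι) : DD S ≤ centralizer (X0 S Z j : Set G) :=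
  centralizer_le (by exact_mod_cast (inf_le_left.trans (h.bf.fr.Z_le j) : X0 S Z j ≤ zj (S : Subgroup G)))

theorem norm_of_norm {j : ι} {R : Subgroup G} (h2 : R ≤ YY Z j) (h3 : R ≤ normalizer (Z j : Set G)) :
    R ≤ normalizer (zj (S : Subgroup G) : Set G) := by
  intro r hr
  refine mem_normalizer_of_cj_le ?_
  conv_lhs => rw [h.bf.fr.ZJ_eq]
  have e : cj r (⨆ i, Z i) = ⨆ i, cj r (Z i) := Subgroup.map_iSup _ _
  rw [e]
  refine iSup_le fun k => ?_
  by_cases hk : k = j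
  · subst hk
    rw [cj_eq_of_mem_normalizer (h3 hr)]
    exact h.bf.fr.Z_le k
  · have h4 : r ∈ centralizer (Z k : Set G) := mem_centralizer_iff.2 fun z hz => (h.bf.YZ hk (h2 hr) hz).symm
    rw [cj_eq_of_mem_normalizer (centralizer_le_normalizer _ h4)]
    exact h.bf.fr.Z_le k

/-- **the minimal parabolics of `Y j`** -/
theorem par (hFF : FFThm.Stmt.{u}) {j : ι} {P : Subgroup G} (hP : IsMinPar (TT S Z j) P) (hPY : P ≤ YY Z j) :
    P ≤ centralizer (X0 S Z j : Set G) ∨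
      ((∀ k, P ≤ normalizer (W k : Set G)) ∧ ∀ l, l ≠ j → ∀ r ∈ P, ∀ w ∈ W l, r * w * r⁻¹ * w⁻¹ ∈ Z l) := by
  have hT : Syl (TT S Z j) P := h.syl_of hP.le hPY
  by_cases ha : P ≤ centralizer (zc (TT S Z j) : Set G)
  · exact Or.inl (ha.trans (centralizer_le (by exact_mod_cast h.X0_le_zc j)))
  by_cases hb : P ≤ normalizer (zj (S : Subgroup G) : Set G)
  · by_cases hc : P ≤ (P ⊓ DD S) ⊔ TT S Z j
    · exact Or.inl (hc.trans (sup_le (inf_le_right.trans (h.DD_cent j)) (h.X0_cent j)))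
    right
    have h1 := HU.norm_inf hP hT (N := DD S) (hb.trans Dich.norm_cent) hc
    rw [h.bf.T_inf (h.T_two j) (h.B_le_T j)] at h1
    exact h.bf.hW hT (h.B_le_T j) hP hPY fun r hr k => ⟨k, h.fixWB (h1 hr) (hPY hr) k⟩
  · right
    have hmv : ¬ P ≤ normalizer (Z j : Set G) := fun h1 => hb (h.norm_of_norm hPY h1)
    have h1 := h.bf.hU hFF hT (h.B_le_T j) hP (h.char2_of hP.le hPY) hPY hmv ha fun l hl r hr w hw w' hw' => by
      obtain ⟨k, hkj, hkl⟩ := h.three j l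
      exact h.bf.com_three hkj hkl (hPY hr) hw hw'
    exact h.bf.hW hT (h.B_le_T j) hP hPY fun r hr k => h.nV r (h1.2.2.2 hr) k

omit h [Finite G] [Finite ι] in
/-- an element of odd order which centralises `W/Z` and `Z` centralises `W` -/
theorem odd_cent {W Z : Subgroup G} {g : G} (ho : Odd (orderOf g)) (hZ : ∀ z ∈ Z, g * z = z * g)
    (hz2 : ∀ z ∈ Z, z ^ 2 = 1) (h : ∀ w ∈ W, g * w * g⁻¹ * w⁻¹ ∈ Z) : g ∈ centralizer (W : Set G) := by
  rw [mem_centralizer_iff]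
  intro w hw
  set z := g * w * g⁻¹ * w⁻¹ with hz
  have hzZ : z ∈ Z := h w hw
  have key : ∀ n : ℕ, g ^ n * w * (g ^ n)⁻¹ = z ^ n * w := by
    intro n
    induction n with
    | zero => simp
    | succ n ih =>
      have hc : Commute g (z ^ n) := (show Commute g z from hZ z hzZ).pow_right n
      calc g ^ (n + 1) * w * (g ^ (n + 1))⁻¹ = g * (g ^ n * w * (g ^ n)⁻¹) * g⁻¹ := by rw [pow_succ']; group
        _ = g * z ^ n * w * g⁻¹ := by rw [ih]; group
        _ = z ^ n * (g * w * g⁻¹) := by rw [hc.eq]; group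
        _ = z ^ n * (z * w) := by rw [hz]; group
        _ = z ^ (n + 1) * w := by rw [pow_succ]; group
  have h1 := key (orderOf g)
  obtain ⟨k, hk⟩ := ho
  rw [pow_orderOf_eq_one, hk, pow_succ, pow_mul, hz2 z hzZ, one_pow] at h1
  have h2 : z = 1 := by
    have h3 : w = z * w := by simpa using h1
    exact (mul_eq_right.1 h3.symm)
  rw [hz] at h2
  exact (mul_inv_eq_iff_eq_mul.1 (mul_inv_eq_one.1 h2)).symm

theorem par_odd (hFF : FFThm.Stmt.{u}) {i j : ι} (hij : i ≠ j) {P : Subgroup G} (hP : IsMinPar (TT S Z j) P)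
    (hPY : P ≤ YY Z j) :
    P ≤ centralizer (X0 S Z j : Set G) ∨ ∀ g ∈ P, Odd (orderOf g) → g ∈ centralizer (W i : Set G) := by
  rcases h.par hFF hP hPY with h1 | ⟨-, h1⟩
  · exact Or.inl h1
  · exact Or.inr fun g hg ho => odd_cent ho (fun z hz => h.bf.YZ hij (hPY hg) hz)
      (fun z hz => elem_sq h.bf.fr.el z (h.bf.fr.ZV i hz)) (h1 i hij g hg)

/-- `N(T j) ≤ N(B)` -/
theorem normT_le (j : ι) : normalizer (TT S Z j : Set G) ≤ normalizer (bau (S : Subgroup G) : Set G) := by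
  have h1 := normalizer_le_of_cj (F := bau) bau_cj (TT S Z j)
  rwa [LemmaK.Main.bau_eq S (h.T_two j) (h.B_le_T j)] at h1

/-- **`Y i = ⟨D, Y i ∩ N_G(W i)⟩`** -/
theorem gen (hFF : FFThm.Stmt.{u}) (i : ι) : YY Z i ≤ DD S ⊔ (YY Z i ⊓ normalizer (W i : Set G)) := by
  have hD : DD S ≤ YY Z i := h.bf.cent_le i
  refine MinSimple.MinParabolic.le_of_forall (S := TT S Z i) inf_le_right ?_ fun P hP hPY => ?_
  · rintro g ⟨hgY, hgN⟩
    exact mem_sup_right ⟨hgY, mem_normalizer_iff_cj.2 (h.fixWB (h.normT_le i hgN) hgY i)⟩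
  · rcases h.par hFF hP hPY with h1 | ⟨h1, -⟩
    · have h2 : P ≤ normalizer (zj (S : Subgroup G) : Set G) := (le_inf hPY h1).trans (h.stabX_le i)
      intro p hp
      obtain ⟨d, hd, n, hn, rfl⟩ := Dich.exists_frattini S (h2 hp)
      have hnY : n ∈ YY Z i := by
        have := mul_mem (inv_mem (hD hd)) (hPY hp)
        simpa using this
      exact mul_mem (mem_sup_left hd) (mem_sup_right ⟨hnY, mem_normalizer_iff_cj.2 (h.fixWB hn hnY i)⟩)
    · exact (le_inf hPY (h1 i)).trans le_sup_right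

/-! ### (NO) -/

/-- `N j = ⟨Z_J^{Y j}⟩` -/
abbrev NJ (S : Sylow 2 G) (Z : ι → Subgroup G) (j : ι) : Subgroup G := EK3.StarE.EE (zj (S : Subgroup G)) (YY Z j)

/-- `X j · ∏ Z l`, `l ≠ j` -/
def ZZ (S : Sylow 2 G) (Z : ι → Subgroup G) (j : ι) : Subgroup G := X0 S Z j ⊔ ⨆ l : {l : ι // l ≠ j}, Z l

theorem ZZ_le (j : ι) : ZZ S Z j ≤ zj (S : Subgroup G) :=
  sup_le (inf_le_left.trans (h.bf.fr.Z_le j)) (iSup_le fun l => h.bf.fr.Z_le l)

theorem exists_X0 (j : ι) : ∃ x ∈ X0 S Z j, x ≠ 1 := by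
  have hT : ∀ t ∈ TT S Z j, ∀ z ∈ Z j, t * z * t⁻¹ ∈ Z j := fun t ht z hz => by
    have h1 := h.fixZ (Dich.norm_zj _ (Dich.two_le S (h.T_two j) (h.B_le_T j) ht)) ht.2 j
    rw [← h1]
    exact ⟨z, hz, rfl⟩
  have hZ : IsElementaryAbelian 2 (Z j) := NO3S.EThree.ExactA.eab_mono h.bf.fr.el (h.bf.fr.ZV j)
  have hne : Z j ≠ ⊥ := by
    obtain ⟨z, hz, hz1⟩ := h.bf.fr.exists_ne j
    intro hb
    rw [hb, mem_bot] at hz
    exact hz1 hz
  obtain ⟨v, hv, hv1, hfix⟩ := FrSym.exists_fix (h.T_two j) hZ hne hT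
  exact ⟨v, ⟨hv, mem_centralizer_iff.2 fun t ht => mul_inv_eq_iff_eq_mul.1 (hfix t ht)⟩, hv1⟩

/-- `⟨Z_J^{Y j}⟩ = ⟨(X j ∏ Z l)^{Y j}⟩` -/
theorem UR_eq (j : ι) : UR (ZZ S Z j) (YY Z j) = NJ S Z j := by
  apply le_antisymm
  · exact UR_le fun r hr z hz => cj_le_EE hr ⟨z, h.ZZ_le j hz, rfl⟩
  · have h1 : zj (S : Subgroup G) ≤ UR (ZZ S Z j) (YY Z j) := by
      rw [h.bf.fr.ZJ_eq]
      refine iSup_le fun k => ?_
      by_cases hk : k = j
      · subst hk
        intro z hz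
        by_cases hz1 : z = 1
        · rw [hz1]; exact one_mem _
        obtain ⟨x, hx, hx1⟩ := h.exists_X0 k
        obtain ⟨l, hl, -, e⟩ := (nb h.bf.fr k).tor' hx.1 hx1 hz hz1
        rw [← e]
        exact NOThreeL.Sigma.conj_mem_UR (h.bf.L_le k hl) (mem_sup_left hx)
      · exact le_trans (le_sup_of_le_right (le_iSup (fun l : {l : ι // l ≠ j} => Z l) ⟨k, hk⟩)) (le_UR _ _)
    refine EE_le fun y hy => ?_
    have h2 := cj_mono y h1
    rwa [cj_eq_of_mem_normalizer (NOThreeL.Sigma.le_normalizer_UR _ _ hy)] at h2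

/-- the flag `(Y j, T j, X j ∏ Z l)` -/
theorem fl (KY : ∀ j, IsKGroup (YY Z j)) (j : ι) : FlIn (YY Z j) (TT S Z j) (ZZ S Z j) := by
  have hTZ : TT S Z j ≤ centralizer (ZZ S Z j : Set G) := by
    rw [Subgroup.le_centralizer_iff]
    exact sup_le inf_le_right (Subgroup.le_centralizer_iff.1 inf_le_right)
  refine ⟨h.T_two j, inf_le_right, syl_not_dvd (h.sylT j), ?_, hTZ, fun z hz => ?_, fun R h1 h2 => ?_, KY j⟩
  · exact (h.ZZ_le j).trans ((h.bf.fr.ZJV.trans (h.bf.fr.VQ.trans h.bf.fr.QB)).trans (h.B_le_T j))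
  · exact elem_sq h.bf.fr.el _ (h.bf.fr.ZJV (h.ZZ_le j hz))
  · have h3 : TT S Z j ≤ R := (le_inf inf_le_right hTZ).trans h1
    refine le_trans (le_inf ?_ ?_) (h.char2_of h3 h2)
    · exact (((h.ZZ_le j).trans ((h.bf.fr.ZJV.trans (h.bf.fr.VQ.trans h.bf.fr.QB)).trans (h.B_le_T j))).trans h3)
    · rw [Subgroup.le_centralizer_iff]
      exact (o2_le_syl (h.syl_of h3 h2)).trans hTZ

/-- `D ≤ K ≤ N(Z_J)`: `O ≤ O₂(K)` -/
theorem O_le {K : Subgroup G} (h1 : K ≤ normalizer (zj (S : Subgroup G) : Set G)) (h2 : DD S ≤ K) :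
    o2 (DD S) ≤ o2 K := by
  have _ := h
  refine le_o2 (isPGroup_o2 _) ((o2_le _).trans h2) ?_
  exact (h1.trans Dich.norm_cent).trans (Cfsg.Agent.Omega.normalizer_le_normalizer_o2' _)

/-- **(NO)** -/
theorem no (ml : ML.Final.MLK.{u, u}) (KY : ∀ j, IsKGroup (YY Z j)) (j : ι) : NoOn (o2 (DD S)) (NJ S Z j) := by
  intro A hA hAO
  have hK : YY Z j ⊓ centralizer (ZZ S Z j : Set G) ≤ normalizer (zj (S : Subgroup G) : Set G) :=
    (inf_le_inf_left _ (centralizer_le (by exact_mod_cast (le_sup_left : X0 S Z j ≤ ZZ S Z j)))).trans (h.stabX_le j)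
  have hD : DD S ≤ YY Z j ⊓ centralizer (ZZ S Z j : Set G) :=
    le_inf (h.bf.cent_le j) (centralizer_le (by exact_mod_cast h.ZZ_le j))
  have h1 := (h.fl KY j).noFlag ml (R := YY Z j) (B := A) inf_le_left le_rfl (hAO.trans (h.O_le hK hD))
    (fun a ha => elem_sq hA a ha)
  rw [h.UR_eq j] at h1
  exact h1

/-! ### The frame of STAR -/

/-- `L' i = Y i ∩ N_G(W i)` -/
abbrev LI (Z W : ι → Subgroup G) (i : ι) : Subgroup G := YY Z i ⊓ normalizer (W i : Set G)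

theorem NJ_le {j : ι} {p : ι → Prop} (hj : ¬ p j) : NJ S Z j ≤ EK3.StarE.EE (zj (S : Subgroup G)) (CP Z p) :=
  EE_mono (YY_le_CP hj)

theorem W_le_NJ (j : ι) : W j ≤ NJ S Z j := by
  obtain ⟨k, hk, e, -⟩ := (nb h.bf.fr j).spl
  rw [e]
  refine sup_le ((h.bf.fr.Z_le j).trans (le_EE _ _)) ?_
  exact (cj_mono k (h.bf.fr.Z_le j)).trans (cj_le_EE (h.bf.L_le j hk))

theorem Z_le_NJ (i j : ι) : Z i ≤ NJ S Z j := (h.bf.fr.Z_le i).trans (le_EE _ _)

/-- **the frame of STAR** -/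
theorem star (hFF : FFThm.Stmt.{u}) (ml : ML.Final.MLK.{u, u}) (KY : ∀ j, IsKGroup (YY Z j)) :
    EK3.StarE.Fr (o2 (DD S)) (DD S) (zj (S : Subgroup G)) (YY Z) (NJ S Z) (LI Z W) where
  OD := o2_le _
  DO := le_normalizer_o2 _
  OZ := o2_le _
  DY := h.bf.cent_le
  LY := fun i => inf_le_left
  YDL := h.gen hFF
  eab := fun i => NO3S.EThree.ExactA.eab_mono (h.eab_EE (p := fun l => l ≠ i) (h.bf.two i)).1 (EE_mono le_rfl)
  NQ := fun i j => by
    obtain ⟨k, hki, hkj⟩ := h.three i j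
    obtain ⟨h1, h2⟩ := h.eab_EE (p := fun l => l ≠ i ∧ l ≠ j) ⟨k, hki, hkj⟩
    have h3 : NJ S Z i ≤ EK3.StarE.EE (zj (S : Subgroup G)) (CP Z fun l => l ≠ i ∧ l ≠ j) := EE_mono (YY_le_CP (by simp))
    have h4 : NJ S Z j ≤ EK3.StarE.EE (zj (S : Subgroup G)) (CP Z fun l => l ≠ i ∧ l ≠ j) := EE_mono (YY_le_CP (by simp))
    exact le_inf (h3.trans h2) ((h3.trans (NO3S.EThree.ExactA.eab_iff.1 h1).1).trans
      (centralizer_le (by exact_mod_cast h4)))
  YN := fun i => norm_EE _ _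
  YQ := fun i => by
    set K : Subgroup G := YY Z i ⊓ centralizer (NJ S Z i : Set G) with hK
    have hKD : K ≤ DD S := by
      rw [← h.stab i]
      exact inf_le_inf_left _ (centralizer_le (by exact_mod_cast h.Z_le_NJ i i))
    have hnK : YY Z i ≤ normalizer (K : Set G) := by
      intro g hg
      rw [mem_normalizer_iff_cj, hK, cj_inf, cj_centralizer, cj_eq_of_mem_normalizer (le_normalizer hg),
        cj_eq_of_mem_normalizer (norm_EE _ _ hg)]
    have e : o2 (DD S) ⊓ centralizer (NJ S Z i : Set G) = o2 K := by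
      apply le_antisymm
      · refine le_o2 ((isPGroup_o2 _).to_le inf_le_left) (inf_le_inf_right _ ((o2_le _).trans (h.bf.cent_le i))) ?_
        intro g hg
        rw [mem_normalizer_iff_cj, cj_inf, cj_centralizer, cj_eq_of_mem_normalizer (le_normalizer_o2 _ (hKD hg)),
          cj_eq_of_mem_normalizer (norm_EE _ _ hg.1)]
      · refine le_inf (le_o2 (isPGroup_o2 _) ((o2_le _).trans hKD) ?_) ((o2_le _).trans inf_le_right)
        exact ((h.bf.cent_le i).trans hnK).trans (Cfsg.Agent.Omega.normalizer_le_normalizer_o2' _)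
    rw [e]
    exact hnK.trans (Cfsg.Agent.Omega.normalizer_le_normalizer_o2' _)
  no := h.no ml KY
  nl := fun U hU hD hL => by
    refine h.nl U ((isPGroup_o2 _).to_le hU) ?_
    exact iSup_le fun i => (h.gen hFF i).trans (sup_le hD (hL i))
  Eeab := fun i j _ => by
    obtain ⟨k, hki, hkj⟩ := h.three i j
    obtain ⟨h1, -⟩ := h.eab_EE (p := fun l => l ≠ i ∧ l ≠ j) ⟨k, hki, hkj⟩
    exact NO3S.EThree.ExactA.eab_mono h1 (EE_mono (sup_le (YY_le_CP (by simp)) (YY_le_CP (by simp))))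
  EO := fun i j _ => by
    obtain ⟨k, hki, hkj⟩ := h.three i j
    obtain ⟨-, h2⟩ := h.eab_EE (p := fun l => l ≠ i ∧ l ≠ j) ⟨k, hki, hkj⟩
    exact le_trans (EE_mono (sup_le (YY_le_CP (by simp)) (YY_le_CP (by simp)))) h2
  NE := fun i => le_rfl

end TIn

end Cfsg.Agent.Omega.OM.Var
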